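import Mathlib

/-!
The wreath product of a group of order 2 by the symmetric group on paired points.
-/

set_option autoImplicit false
set_option linter.unusedSectionVars false
set_option linter.style.haveILetI false

namespace CfsgLib.KondoFusion

open Equiv Equiv.Perm

/-- The points: `n` pairs. -/
abbrev Pt (n : ℕ) := Fin n × Fin 2

/-- An element of `C₂ ≀ S₂ₙ`. -/
@[ext] structure Wr (n : ℕ) where
  e : Pt n → ZMod 2
  p : Perm (Pt n)

variable {n : ℕ}

instance : One (Wr n) := ⟨⟨0, 1⟩⟩
instance : Mul (Wr n) := ⟨fun a b => ⟨a.e + fun x => b.e (a.p.symm x), a.p * b.p⟩⟩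
instance : Inv (Wr n) := ⟨fun a => ⟨fun x => a.e (a.p x), a.p⁻¹⟩⟩

theorem mul_e (a b : Wr n) : (a * b).e = a.e + fun x => b.e (a.p.symm x) := rfl
theorem mul_p (a b : Wr n) : (a * b).p = a.p * b.p := rfl
theorem one_e : (1 : Wr n).e = 0 := rfl
theorem one_p : (1 : Wr n).p = 1 := rfl
theorem inv_e (a : Wr n) : a⁻¹.e = fun x => a.e (a.p x) := rfl
theorem inv_p (a : Wr n) : a⁻¹.p = a.p⁻¹ := rfl

instance : Group (Wr n) :=
  Group.ofLeftAxioms
    (fun a b c => by
      refine Wr.ext (funext fun x => ?_) (mul_assoc _ _ _)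
      simp only [mul_e, mul_p, Pi.add_apply, add_assoc]
      rfl)
    (fun a => by
      refine Wr.ext (funext fun x => ?_) (one_mul _)
      simp only [mul_e, one_e, Pi.add_apply, Pi.zero_apply, zero_add]
      rfl)
    (fun a => by
      refine Wr.ext (funext fun x => ?_) (inv_mul_cancel _)
      simp only [mul_e, inv_e, inv_p, one_e, Pi.add_apply, Pi.zero_apply]
      exact CharTwo.add_self_eq_zero _)

/-- The underlying pair. -/
def wrEquiv (n : ℕ) : Wr n ≃ (Pt n → ZMod 2) × Perm (Pt n) where
  toFun a := (a.e, a.p)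
  invFun a := ⟨a.1, a.2⟩
  left_inv _ := rfl
  right_inv _ := rfl

instance : Finite (Wr n) := Finite.of_equiv _ (wrEquiv n).symm

/-- The projection on permutations. -/
def toPerm (n : ℕ) : Wr n →* Perm (Pt n) := MonoidHom.mk' (fun a => a.p) fun _ _ => rfl

/-- The base group. -/
def bse (v : Pt n → ZMod 2) : Wr n := ⟨v, 1⟩

theorem bse_mul (v w : Pt n → ZMod 2) : bse v * bse w = bse (v + w) := rfl

theorem bse_zero : bse (0 : Pt n → ZMod 2) = 1 := rfl

theorem bse_inv (v : Pt n → ZMod 2) : (bse v)⁻¹ = bse v := rfl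

theorem eq_bse {a : Wr n} (h : a.p = 1) : a = bse a.e := Wr.ext rfl h

theorem conj_bse (a : Wr n) (v : Pt n → ZMod 2) :
    a * bse v * a⁻¹ = bse fun x => v (a.p.symm x) := by
  rw [mul_inv_eq_iff_eq_mul]
  refine Wr.ext (funext fun x => ?_) ?_
  · simp only [mul_e, bse, Pi.add_apply]
    rw [add_comm]
    rfl
  · simp [mul_p, bse]

/-- The central involution. -/
def tau (n : ℕ) : Wr n := bse 1

theorem tau_comm (a : Wr n) : a * tau n = tau n * a := by
  rw [← mul_inv_eq_iff_eq_mul, tau, conj_bse]
  rfl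

/-- The subgroup fixing every pair. -/
def pairs (n : ℕ) : Subgroup (Wr n) where
  carrier := {a | ∀ x, (a.p x).1 = x.1}
  one_mem' := fun x => rfl
  mul_mem' := fun {a b} ha hb x => by rw [mul_p, Perm.mul_apply, ha, hb]
  inv_mem' := fun {a} ha x => by
    have := ha (a.p⁻¹ x)
    rw [show a.p (a.p⁻¹ x) = x from a.p.apply_symm_apply x] at this
    rw [inv_p, this]

/-- Whether the pair `i` is flipped. -/
def bit (a : Wr n) (i : Fin n) : Fin 2 := (a.p (i, 0)).2

theorem apply_eq {a : Wr n} (ha : a ∈ pairs n) (i : Fin n) (j : Fin 2) :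
    a.p (i, j) = (i, j + bit a i) := by
  have h0 : a.p (i, 0) = (i, bit a i) := Prod.ext (ha (i, 0)) rfl
  have h1 : a.p (i, 1) = (i, (a.p (i, 1)).2) := Prod.ext (ha (i, 1)) rfl
  fin_cases j
  · simpa using h0
  · have hne : (a.p (i, 1)).2 ≠ bit a i := fun h => by
      have : a.p (i, 1) = a.p (i, 0) := by rw [h0, h1, h]
      simpa using a.p.injective this
    refine h1.trans (Prod.ext rfl ?_)
    simp only [Fin.isValue, Fin.mk_one]
    revert hne
    generalize (a.p (i, 1)).2 = c
    generalize bit a i = d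
    revert c d
    decide

theorem bit_mul {a b : Wr n} (ha : a ∈ pairs n) (hb : b ∈ pairs n) (i : Fin n) :
    bit (a * b) i = bit a i + bit b i := by
  show (a.p (b.p (i, 0))).2 = _
  rw [apply_eq hb, apply_eq ha, zero_add, add_comm]

theorem bit_one (i : Fin n) : bit (1 : Wr n) i = 0 := rfl

theorem bit_bse (v : Pt n → ZMod 2) (i : Fin n) : bit (bse v) i = 0 := rfl

theorem bse_mem_pairs (v : Pt n → ZMod 2) : bse v ∈ pairs n := fun _ => rfl

theorem symm_apply_eq' {a : Wr n} (ha : a ∈ pairs n) (i : Fin n) (j : Fin 2) :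
    a.p.symm (i, j) = (i, j + bit a i) := by
  rw [Equiv.symm_apply_eq, apply_eq ha]
  refine Prod.ext rfl ?_
  show j = j + bit a i + bit a i
  generalize bit a i = d
  revert j d
  decide

theorem mul_e_apply {a : Wr n} (ha : a ∈ pairs n) (b : Wr n) (i : Fin n) (j : Fin 2) :
    (a * b).e (i, j) = a.e (i, j) + b.e (i, j + bit a i) := by
  rw [mul_e, Pi.add_apply, symm_apply_eq' ha]

theorem perm_eq_one {a : Wr n} (ha : a ∈ pairs n) (h : ∀ i, bit a i = 0) : a.p = 1 := by
  refine Equiv.ext fun ⟨i, j⟩ => ?_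
  rw [apply_eq ha, h, add_zero]
  rfl

theorem pairs_ext {a b : Wr n} (ha : a ∈ pairs n) (hb : b ∈ pairs n)
    (he : ∀ i j, a.e (i, j) = b.e (i, j)) (hp : ∀ i, bit a i = bit b i) : a = b := by
  refine Wr.ext (funext fun ⟨i, j⟩ => he i j) (Equiv.ext fun ⟨i, j⟩ => ?_)
  rw [apply_eq ha, apply_eq hb, hp]

/-- The element of `pairs n` with given components. -/
def mkPair (v : Pt n → ZMod 2) (s : Fin n → Fin 2) : Wr n :=
  ⟨v, { toFun := fun x => (x.1, x.2 + s x.1), invFun := fun x => (x.1, x.2 + s x.1),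
        left_inv := fun x => by
          refine Prod.ext rfl ?_
          show x.2 + s x.1 + s x.1 = x.2
          generalize s x.1 = d
          generalize x.2 = j
          revert j d; decide
        right_inv := fun x => by
          refine Prod.ext rfl ?_
          show x.2 + s x.1 + s x.1 = x.2
          generalize s x.1 = d
          generalize x.2 = j
          revert j d; decide }⟩

theorem mkPair_mem (v : Pt n → ZMod 2) (s : Fin n → Fin 2) : mkPair v s ∈ pairs n := fun _ => rfl

theorem bit_mkPair (v : Pt n → ZMod 2) (s : Fin n → Fin 2) (i : Fin n) :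
    bit (mkPair v s) i = s i := by
  show (0 : Fin 2) + s i = s i
  rw [zero_add]

theorem eq_mkPair {a : Wr n} (ha : a ∈ pairs n) : a = mkPair a.e (bit a) :=
  pairs_ext ha (mkPair_mem _ _) (fun _ _ => rfl) fun i => (bit_mkPair _ _ i).symm

theorem fin2_cases : ∀ d : Fin 2, d = 0 ∨ d = 1 := by decide

theorem zmod2_cases : ∀ d : ZMod 2, d = 0 ∨ d = 1 := by decide

/-- Squares in `pairs n`. -/
theorem sq_eq {a : Wr n} (ha : a ∈ pairs n) :
    a * a = bse fun x => a.e x + a.e (x.1, x.2 + bit a x.1) := by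
  refine pairs_ext ((pairs n).mul_mem ha ha) (bse_mem_pairs _) (fun i j => ?_) fun i => ?_
  · rw [mul_e_apply ha]; rfl
  · rw [bit_mul ha ha, bit_bse]
    generalize bit a i = d
    revert d; decide

theorem roots_commute {a b : Wr n} (ha : a ∈ pairs n) (hb : b ∈ pairs n) (h1 : a * a = tau n)
    (h2 : b * b = tau n) : a * b = b * a := by
  have key : ∀ {c : Wr n}, c ∈ pairs n → c * c = tau n → ∀ i, bit c i = 1 ∧
      ∀ j, c.e (i, j) + c.e (i, j + 1) = 1 := by
    intro c hc h i
    have h0 : ∀ j, c.e (i, j) + c.e (i, j + bit c i) = 1 := fun j => by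
      rw [← mul_e_apply hc, h]; rfl
    have hb : bit c i = 1 := by
      rcases fin2_cases (bit c i) with e | e
      · have := h0 0
        rw [e, add_zero, CharTwo.add_self_eq_zero] at this
        exact absurd this (by decide)
      · exact e
    exact ⟨hb, fun j => hb ▸ h0 j⟩
  refine pairs_ext ((pairs n).mul_mem ha hb) ((pairs n).mul_mem hb ha) (fun i j => ?_) fun i => ?_
  · rw [mul_e_apply ha, mul_e_apply hb, (key ha h1 i).1, (key hb h2 i).1]
    have e1 := (key ha h1 i).2 j
    have e2 := (key hb h2 i).2 j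
    revert e1 e2
    generalize a.e (i, j) = p
    generalize a.e (i, j + 1) = q
    generalize b.e (i, j) = r
    generalize b.e (i, j + 1) = s
    revert p q r s
    decide
  · rw [bit_mul ha hb, bit_mul hb ha, add_comm]

theorem exists_root (n : ℕ) : ∃ a ∈ pairs n, a * a = tau n := by
  refine ⟨mkPair (fun x => if x.2 = 0 then 1 else 0) (fun _ => 1), mkPair_mem _ _, ?_⟩
  refine pairs_ext ((pairs n).mul_mem (mkPair_mem _ _) (mkPair_mem _ _)) (bse_mem_pairs _)
    (fun i j => ?_) fun i => ?_
  · rw [mul_e_apply (mkPair_mem _ _), bit_mkPair]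
    show (if j = 0 then (1 : ZMod 2) else 0) + (if j + 1 = 0 then 1 else 0) = 1
    revert j; decide
  · rw [bit_mul (mkPair_mem _ _) (mkPair_mem _ _), bit_mkPair, tau, bit_bse]
    rfl

/-- A square other than `tau` has two roots which do not commute. -/
theorem roots_not_commute {a : Wr n} (ha : a ∈ pairs n) (h : a * a ≠ tau n) :
    ∃ b ∈ pairs n, ∃ c ∈ pairs n, b * b = a * a ∧ c * c = a * a ∧ b * c ≠ c * b := by
  classical
  obtain ⟨⟨i, j⟩, hij⟩ : ∃ x : Pt n, (a * a).e x ≠ 1 := by
    by_contra hn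
    push Not at hn
    apply h
    rw [sq_eq ha, tau]
    refine congrArg bse (funext fun ⟨i', j'⟩ => ?_)
    show _ = (1 : ZMod 2)
    rw [← hn (i', j'), mul_e_apply ha]
  have hz : ∀ j', (a * a).e (i, j') = 0 := by
    intro j'
    rw [mul_e_apply ha] at hij ⊢
    revert hij
    generalize bit a i = d
    rcases fin2_cases j with rfl | rfl <;> rcases fin2_cases j' with rfl | rfl <;>
      rcases fin2_cases d with rfl | rfl <;> (try simp only [add_zero, zero_add]) <;>
      (try rw [show (1 : Fin 2) + 1 = 0 from rfl]) <;>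
      generalize a.e (i, 0) = p <;> generalize a.e (i, 1) = q <;> revert p q <;> decide
  let b := mkPair (fun x => if x.1 = i then (if x.2 = 0 then 1 else 0) else a.e x)
    (Function.update (bit a) i 0)
  let c := mkPair (fun x => if x.1 = i then 0 else a.e x) (Function.update (bit a) i 1)
  refine ⟨b, mkPair_mem _ _, c, mkPair_mem _ _, ?_, ?_, ?_⟩
  · refine pairs_ext ((pairs n).mul_mem (mkPair_mem _ _) (mkPair_mem _ _))
      ((pairs n).mul_mem ha ha) (fun k l => ?_) fun k => ?_
    · rw [mul_e_apply (mkPair_mem _ _), bit_mkPair]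
      rcases eq_or_ne k i with rfl | hk
      · rw [Function.update_self, hz, add_zero, CharTwo.add_self_eq_zero]
      · rw [Function.update_of_ne hk, mul_e_apply ha]
        simp [b, mkPair, hk]
    · rw [bit_mul (mkPair_mem _ _) (mkPair_mem _ _), bit_mul ha ha, bit_mkPair]
      rcases eq_or_ne k i with rfl | hk
      · rw [Function.update_self]
        generalize bit a k = d
        revert d; decide
      · rw [Function.update_of_ne hk]
  · refine pairs_ext ((pairs n).mul_mem (mkPair_mem _ _) (mkPair_mem _ _))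
      ((pairs n).mul_mem ha ha) (fun k l => ?_) fun k => ?_
    · rw [mul_e_apply (mkPair_mem _ _), bit_mkPair]
      rcases eq_or_ne k i with rfl | hk
      · rw [hz]
        simp [c, mkPair]
      · rw [Function.update_of_ne hk, mul_e_apply ha]
        simp [c, mkPair, hk]
    · rw [bit_mul (mkPair_mem _ _) (mkPair_mem _ _), bit_mul ha ha, bit_mkPair]
      rcases eq_or_ne k i with rfl | hk
      · rw [Function.update_self]
        generalize bit a k = d
        revert d; decide
      · rw [Function.update_of_ne hk]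
  · intro hbc
    have := congrArg (fun w : Wr n => w.e (i, 0)) hbc
    simp only [b, c, mul_e_apply (mkPair_mem _ _), bit_mkPair, Function.update_self] at this
    simp [mkPair] at this

/-- The subgroup of elements of `pairs n` which are constant on the pairs of `X` and flip only
those. -/
def four (X : Finset (Fin n)) : Subgroup (Wr n) where
  carrier := {a | a ∈ pairs n ∧ (∀ i ∈ X, a.e (i, 0) = a.e (i, 1)) ∧ ∀ i ∉ X, bit a i = 0}
  one_mem' := ⟨(pairs n).one_mem, fun i _ => rfl, fun i _ => rfl⟩
  mul_mem' := fun {a b} ha hb => ⟨(pairs n).mul_mem ha.1 hb.1, fun i hi => by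
    rw [mul_e_apply ha.1, mul_e_apply ha.1, ha.2.1 i hi]
    rcases fin2_cases (bit a i) with e | e <;> rw [e]
    · rw [add_zero, add_zero, hb.2.1 i hi]
    · rw [zero_add, show (1 : Fin 2) + 1 = 0 from rfl, hb.2.1 i hi],
    fun i hi => by rw [bit_mul ha.1 hb.1, ha.2.2 i hi, hb.2.2 i hi]; rfl⟩
  inv_mem' := fun {a} ha => by
    have hbit : ∀ i, bit a⁻¹ i = bit a i := fun i => by
      have h := bit_mul ((pairs n).inv_mem ha.1) ha.1 i
      rw [inv_mul_cancel, bit_one] at h
      revert h
      generalize bit a⁻¹ i = c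
      generalize bit a i = d
      revert c d; decide
    refine ⟨(pairs n).inv_mem ha.1, fun i hi => ?_, fun i hi => by rw [hbit, ha.2.2 i hi]⟩
    show a.e (a.p (i, 0)) = a.e (a.p (i, 1))
    rw [apply_eq ha.1, apply_eq ha.1]
    rcases fin2_cases (bit a i) with e | e <;> rw [e]
    · simpa using ha.2.1 i hi
    · rw [zero_add, show (1 : Fin 2) + 1 = 0 from rfl, ha.2.1 i hi]

theorem mem_four {X : Finset (Fin n)} {a : Wr n} :
    a ∈ four X ↔ a ∈ pairs n ∧ (∀ i ∈ X, a.e (i, 0) = a.e (i, 1)) ∧ ∀ i ∉ X, bit a i = 0 :=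
  Iff.rfl

theorem four_le_pairs (X : Finset (Fin n)) : four X ≤ pairs n := fun _ ha => ha.1

theorem four_sq {X : Finset (Fin n)} {a : Wr n} (ha : a ∈ four X) : a * a = 1 := by
  refine pairs_ext ((pairs n).mul_mem ha.1 ha.1) (pairs n).one_mem (fun i j => ?_) fun i => ?_
  · rw [mul_e_apply ha.1, one_e, Pi.zero_apply]
    by_cases hi : i ∈ X
    · have h := ha.2.1 i hi
      revert h
      generalize bit a i = d
      rcases fin2_cases j with rfl | rfl <;> rcases fin2_cases d with rfl | rfl <;>
        (try simp only [add_zero, zero_add]) <;> (try rw [show (1 : Fin 2) + 1 = 0 from rfl]) <;>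
        generalize a.e (i, 0) = p <;> generalize a.e (i, 1) = q <;> revert p q <;> decide
    · rw [ha.2.2 i hi, add_zero, CharTwo.add_self_eq_zero]
  · rw [bit_mul ha.1 ha.1, bit_one]
    generalize bit a i = d
    revert d; decide

theorem four_empty : ∀ a : Wr n, a ∈ four (∅ : Finset (Fin n)) ↔ a.p = 1 := by
  intro a
  constructor
  · intro ha; exact perm_eq_one ha.1 fun i => ha.2.2 i (Finset.notMem_empty i)
  · intro h
    refine ⟨fun x => by rw [h]; rfl, fun i hi => absurd hi (Finset.notMem_empty i), fun i _ => ?_⟩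
    rw [bit, h]; rfl

theorem card_four (X : Finset (Fin n)) : Nat.card (four X) = 2 ^ (2 * n) := by
  let f : four X → Pt n → ZMod 2 := fun a x =>
    if x.1 ∈ X ∧ x.2 = 1 then (bit (a : Wr n) x.1).val else (a : Wr n).e x
  have hf : Function.Bijective f := by
    constructor
    · rintro ⟨a, ha⟩ ⟨b, hb⟩ h
      refine Subtype.ext (pairs_ext ha.1 hb.1 (fun i j => ?_) fun i => ?_)
      · have h0 := congrFun h (i, 0)
        simp only [f, zero_ne_one, and_false, if_false] at h0
        by_cases hi : i ∈ X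
        · rcases fin2_cases j with rfl | rfl
          · exact h0
          · rw [← ha.2.1 i hi, ← hb.2.1 i hi]; exact h0
        · have := congrFun h (i, j)
          simpa [f, hi] using this
      · by_cases hi : i ∈ X
        · have h1 := congrFun h (i, 1)
          simp only [f, hi, and_self, if_true] at h1
          revert h1
          generalize bit a i = c
          generalize bit b i = d
          revert c d; decide
        · rw [ha.2.2 i hi, hb.2.2 i hi]
    · intro v
      let a := mkPair (fun x => if x.1 ∈ X then v (x.1, 0) else v x)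
        (fun i => if i ∈ X then (if v (i, 1) = 0 then 0 else 1) else 0)
      refine ⟨⟨a, mkPair_mem _ _, fun i hi => by simp [a, mkPair, hi],
        fun i hi => by rw [bit_mkPair, if_neg hi]⟩, funext fun ⟨i, j⟩ => ?_⟩
      show (if i ∈ X ∧ j = 1 then ((bit a i).val : ZMod 2) else a.e (i, j)) = v (i, j)
      by_cases hi : i ∈ X
      · rcases fin2_cases j with rfl | rfl
        · simp [a, mkPair, hi]
        · rw [if_pos ⟨hi, rfl⟩, bit_mkPair, if_pos hi]
          rcases zmod2_cases (v (i, 1)) with e | e <;> rw [e] <;> rfl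
      · simp [a, mkPair, hi]
  rw [Nat.card_congr (Equiv.ofBijective f hf), Nat.card_eq_fintype_card, Fintype.card_fun,
    Fintype.card_prod, Fintype.card_fin, Fintype.card_fin, ZMod.card, mul_comm]

/-- `pairs n` is generated by the base and the product of all fours. -/
theorem pairs_factor {a : Wr n} (ha : a ∈ pairs n) :
    ∃ b ∈ four (∅ : Finset (Fin n)), ∃ c ∈ four (Finset.univ : Finset (Fin n)), a = b * c := by
  refine ⟨bse a.e, (four_empty _).2 rfl, mkPair 0 (bit a),
    ⟨mkPair_mem _ _, fun i _ => rfl, fun i hi => absurd (Finset.mem_univ i) hi⟩, ?_⟩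
  refine pairs_ext ha ((pairs n).mul_mem (bse_mem_pairs _) (mkPair_mem _ _)) (fun i j => ?_)
    fun i => ?_
  · rw [mul_e_apply (bse_mem_pairs _)]
    simp [mkPair, bse]
  · rw [bit_mul (bse_mem_pairs _) (mkPair_mem _ _), bit_bse, bit_mkPair, zero_add]

/-- Elementary abelian subgroups of a 2-group containing `pairs n`. -/
theorem elem_bound {A P : Subgroup (Wr n)} (hP : IsPGroup 2 P) (hJP : pairs n ≤ P) (hAP : A ≤ P)
    (hA : ∀ a ∈ A, a * a = 1) :
    Nat.card A ≤ 2 ^ (2 * n) ∧ (Nat.card A = 2 ^ (2 * n) → A ≤ pairs n) := by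
  classical
  have hinv : ∀ a ∈ A, a⁻¹ = a := fun a ha => inv_eq_of_mul_eq_one_left (hA a ha)
  have hcomm : ∀ a ∈ A, ∀ b ∈ A, a * b = b * a := fun a ha b hb => by
    have := hinv _ (A.mul_mem ha hb)
    rw [mul_inv_rev, hinv a ha, hinv b hb] at this
    exact this.symm
  let φ : A →* Perm (Pt n) := (toPerm n).comp A.subtype
  haveI : Fintype φ.range := Fintype.ofFinite _
  haveI : Fintype φ.ker := Fintype.ofFinite _
  have hqcomm : ∀ q q' : φ.range, (q : Perm (Pt n)) * q' = q' * q := by
    rintro ⟨_, a, rfl⟩ ⟨_, b, rfl⟩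
    exact congrArg (toPerm n) (hcomm a a.2 b b.2)
  let O : Pt n → Finset (Pt n) := fun x => Finset.univ.image fun q : φ.range => (q : Perm (Pt n)) x
  have hmem : ∀ x, x ∈ O x := fun x => Finset.mem_image.2 ⟨1, Finset.mem_univ _, rfl⟩
  have hsub : ∀ x y, y ∈ O x → O y = O x := by
    intro x y hy
    obtain ⟨q, -, rfl⟩ := Finset.mem_image.1 hy
    ext z
    simp only [O, Finset.mem_image, Finset.mem_univ, true_and]
    constructor
    · rintro ⟨r, rfl⟩; exact ⟨r * q, rfl⟩
    · rintro ⟨r, rfl⟩
      exact ⟨r * q⁻¹, by simp⟩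
  let Os := (Finset.univ : Finset (Pt n)).image O
  have hrep : ∀ o : Os, ∃ x, O x = o := fun o => by
    obtain ⟨x, -, hx⟩ := Finset.mem_image.1 o.2; exact ⟨x, hx⟩
  choose rep hrep using hrep
  have hfib : ∀ o ∈ Os, (Finset.univ.filter fun x => O x = o) = o := by
    intro o ho
    obtain ⟨x, -, rfl⟩ := Finset.mem_image.1 ho
    ext y
    simp only [Finset.mem_filter, Finset.mem_univ, true_and]
    exact ⟨fun h => h ▸ hmem y, hsub x y⟩
  have hsum : ∑ o ∈ Os, o.card = 2 * n := by
    rw [show 2 * n = (Finset.univ : Finset (Pt n)).card by simp [mul_comm],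
      Finset.card_eq_sum_card_image O Finset.univ]
    exact Finset.sum_congr rfl fun o ho => by rw [hfib o ho]
  -- kernel
  let κ : φ.ker → (Os → ZMod 2) := fun a o => ((a : A) : Wr n).e (rep o)
  have hker : Function.Injective κ := by
    have hconst : ∀ (a : φ.ker) x y, y ∈ O x → ((a : A) : Wr n).e y = ((a : A) : Wr n).e x := by
      intro a x y hy
      obtain ⟨⟨q, b, rfl⟩, -, rfl⟩ := Finset.mem_image.1 hy
      have hap : ((a : A) : Wr n).p = 1 := a.2
      have h := congrFun (congrArg Wr.e (hcomm _ (a : A).2 _ b.2)) (((b : A) : Wr n).p x)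
      simp only [mul_e, hap, Pi.add_apply, Equiv.symm_apply_apply] at h
      show ((a : A) : Wr n).e (((b : A) : Wr n).p x) = _
      change ((a : A) : Wr n).e (((b : A) : Wr n).p x) + ((b : A) : Wr n).e (((b : A) : Wr n).p x) =
        ((b : A) : Wr n).e (((b : A) : Wr n).p x) + ((a : A) : Wr n).e x at h
      rw [add_comm] at h
      exact add_left_cancel h
    intro a b h
    refine Subtype.ext (Subtype.ext (Wr.ext (funext fun x => ?_) ?_))
    · let o : Os := ⟨O x, Finset.mem_image_of_mem _ (Finset.mem_univ x)⟩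
      have hx : x ∈ O (rep o) := by rw [hrep o]; exact hmem x
      rw [hconst a _ _ hx, hconst b _ _ hx]
      exact congrFun h o
    · rw [show ((a : A) : Wr n).p = 1 from a.2, show ((b : A) : Wr n).p = 1 from b.2]
  let ρ : φ.range → ((o : Os) → (o : Finset (Pt n))) := fun q o =>
    ⟨(q : Perm (Pt n)) (rep o),
      (hrep o) ▸ Finset.mem_image.2 ⟨q, Finset.mem_univ _, rfl⟩⟩
  have hrng : Function.Injective ρ := by
    intro q q' h
    refine Subtype.ext (Equiv.ext fun x => ?_)
    let o : Os := ⟨O x, Finset.mem_image_of_mem _ (Finset.mem_univ x)⟩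
    have hx : x ∈ O (rep o) := by rw [hrep o]; exact hmem x
    obtain ⟨r, -, hr⟩ := Finset.mem_image.1 hx
    rw [← hr, ← Perm.mul_apply, ← Perm.mul_apply, hqcomm q r, hqcomm q' r, Perm.mul_apply,
      Perm.mul_apply]
    exact congrArg _ (congrArg Subtype.val (congrFun h o))
  have hcard : Nat.card A = Nat.card φ.ker * Nat.card φ.range := by
    rw [← Subgroup.card_mul_index φ.ker, Subgroup.index_ker]
  have h1 : Nat.card φ.ker ≤ 2 ^ Os.card := by
    refine (Nat.card_le_card_of_injective κ hker).trans (le_of_eq ?_)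
    rw [Nat.card_eq_fintype_card, Fintype.card_fun, Fintype.card_coe, ZMod.card]
  have h2 : Nat.card φ.range ≤ ∏ o ∈ Os, o.card := by
    refine (Nat.card_le_card_of_injective ρ hrng).trans (le_of_eq ?_)
    rw [Nat.card_eq_fintype_card, Fintype.card_pi, ← Finset.prod_coe_sort Os]
    simp
  have hpos : ∀ o ∈ Os, 0 < o.card := fun o ho => by
    obtain ⟨x, -, rfl⟩ := Finset.mem_image.1 ho
    exact Finset.card_pos.2 ⟨x, hmem x⟩
  have h2k : ∀ k, 0 < k → 2 * k ≤ 2 ^ k ∧ (2 * k = 2 ^ k → k ≤ 2) := by
    intro k hk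
    induction k with
    | zero => omega
    | succ k ih =>
      rcases Nat.eq_zero_or_pos k with rfl | hk'
      · norm_num
      · obtain ⟨ih1, ih2⟩ := ih hk'
        have h2' : 2 ^ (k + 1) = 2 ^ k + 2 ^ k := by rw [pow_succ]; ring
        rw [h2']
        exact ⟨by omega, fun h => by omega⟩
  have h3 : 2 ^ Os.card * ∏ o ∈ Os, o.card = ∏ o ∈ Os, 2 * o.card := by
    rw [Finset.prod_mul_distrib, Finset.prod_const]
  have h4 : ∏ o ∈ Os, 2 * o.card ≤ 2 ^ (2 * n) := by
    rw [← hsum, ← Finset.prod_pow_eq_pow_sum]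
    exact Finset.prod_le_prod' fun o ho => (h2k _ (hpos o ho)).1
  have hle : Nat.card A ≤ 2 ^ (2 * n) :=
    hcard ▸ ((Nat.mul_le_mul h1 h2).trans (h3.le.trans h4))
  refine ⟨hle, fun heq => ?_⟩
  rw [hcard] at heq
  have hsmall : ∀ o ∈ Os, o.card ≤ 2 := by
    intro o ho
    by_contra hbig
    have hlt : ∏ o ∈ Os, 2 * o.card < 2 ^ (2 * n) := by
      rw [← hsum, ← Finset.prod_pow_eq_pow_sum]
      refine Finset.prod_lt_prod (fun o ho => by have := hpos o ho; omega)
        (fun o ho => (h2k _ (hpos o ho)).1) ⟨o, ho, ?_⟩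
      have := h2k _ (hpos o ho)
      omega
    have := (Nat.mul_le_mul h1 h2).trans h3.le
    omega
  have hsurj : Nat.card φ.range = ∏ o ∈ Os, o.card := by
    refine le_antisymm h2 ?_
    by_contra hlt
    have hlt' : Nat.card φ.ker * Nat.card φ.range < 2 ^ Os.card * ∏ o ∈ Os, o.card :=
      lt_of_le_of_lt (Nat.mul_le_mul_right _ h1)
        (Nat.mul_lt_mul_of_pos_left (by omega) (Nat.two_pow_pos _))
    rw [h3] at hlt'
    omega
  have hρ : Function.Surjective ρ := by
    refine ((Fintype.bijective_iff_injective_and_card ρ).2 ⟨hrng, ?_⟩).2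
    rw [← Nat.card_eq_fintype_card, hsurj, Fintype.card_pi, ← Finset.prod_coe_sort Os]
    simp
  intro a ha x
  let q : φ.range := ⟨a.p, ⟨a, ha⟩, rfl⟩
  by_contra hne
  set y := a.p x with hy
  have hxy : x ≠ y := fun h => hne (by rw [← h])
  have hox : O x = {x, y} := by
    refine (Finset.eq_of_subset_of_card_le (fun z hz => ?_) ?_).symm
    · simp only [Finset.mem_insert, Finset.mem_singleton] at hz
      rcases hz with rfl | rfl
      · exact hmem z
      · exact Finset.mem_image.2 ⟨q, Finset.mem_univ _, rfl⟩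
    · rw [Finset.card_pair hxy]
      exact hsmall _ (Finset.mem_image_of_mem _ (Finset.mem_univ x))
  let o₀ : Os := ⟨O x, Finset.mem_image_of_mem _ (Finset.mem_univ x)⟩
  obtain ⟨s, hs⟩ := hρ (Function.update (fun o => ⟨rep o, (hrep o) ▸ hmem (rep o)⟩) o₀
    ⟨if rep o₀ = x then y else x, by
      show _ ∈ O x
      rw [hox]; split_ifs <;> simp⟩)
  have hs' : (s : Perm (Pt n)) = swap x y := by
    refine Equiv.ext fun z => ?_
    let o : Os := ⟨O z, Finset.mem_image_of_mem _ (Finset.mem_univ z)⟩
    have hz : z ∈ O (rep o) := by rw [hrep o]; exact hmem z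
    obtain ⟨r, -, hr⟩ := Finset.mem_image.1 hz
    have hso := congrArg Subtype.val (congrFun hs o)
    change (s : Perm (Pt n)) (rep o) = _ at hso
    rcases eq_or_ne o o₀ with ho | ho
    · rw [ho, Function.update_self] at hso
      dsimp only at hso
      have hzo : z ∈ ({x, y} : Finset (Pt n)) := by
        have e : O z = O x := congrArg Subtype.val ho
        rw [← hox, ← e]; exact hmem z
      have hr0 : rep o₀ ∈ ({x, y} : Finset (Pt n)) := by
        rw [← hox]
        have := hmem (rep o₀); rwa [hrep o₀] at this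
      have hinj := (s : Perm (Pt n)).injective
      have hsx : ∀ w ∈ ({x, y} : Finset (Pt n)), (s : Perm (Pt n)) w ∈ ({x, y} : Finset (Pt n)) := by
        intro w hw
        rw [← hox] at hw ⊢
        rw [← hsub x w hw]
        exact Finset.mem_image.2 ⟨s, Finset.mem_univ _, rfl⟩
      simp only [Finset.mem_insert, Finset.mem_singleton] at hzo hr0 hsx
      rcases hr0 with h0 | h0 <;> rw [h0] at hso
      · rw [if_pos rfl] at hso
        rcases hzo with e | e <;> rw [e]
        · rw [hso, swap_apply_left]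
        · rw [swap_apply_right]
          exact (hsx y (Or.inr rfl)).resolve_right fun h => hxy (hinj (hso.trans h.symm))
      · rw [if_neg hxy.symm] at hso
        rcases hzo with e | e <;> rw [e]
        · rw [swap_apply_left]
          exact (hsx x (Or.inl rfl)).resolve_left fun h => hxy (hinj (h.trans hso.symm))
        · rw [hso, swap_apply_right]
    · rw [Function.update_of_ne ho] at hso
      dsimp only at hso
      rw [swap_apply_of_ne_of_ne, ← hr, ← Perm.mul_apply, hqcomm s r, Perm.mul_apply, hso]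
      · intro h; exact ho (Subtype.ext (by show O z = O x; rw [h]))
      · intro h
        exact ho (Subtype.ext (by
          show O z = O x
          rw [h]
          exact hsub x y (by rw [hox]; simp)))
  obtain ⟨⟨b, hbA⟩, hb⟩ := s.2
  have hbp : b.p = swap x y := hb.trans hs'
  let x' : Pt n := (x.1, x.2 + 1)
  have hx' : x' ≠ x := fun h => by
    have := congrArg Prod.snd h
    simp [x'] at this
  have hyx' : y ≠ x' := fun h => hne (by rw [h])
  let f := mkPair (0 : Pt n → ZMod 2) (Function.update 0 x.1 1)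
  have hf : f.p = swap x x' := by
    refine Equiv.ext fun ⟨i, j⟩ => ?_
    show (i, j + (Function.update (0 : Fin n → Fin 2) x.1 1) i) = _
    rcases eq_or_ne i x.1 with rfl | hi
    · rw [Function.update_self]
      obtain ⟨x1, x2⟩ := x
      simp only [x']
      rcases fin2_cases j with rfl | rfl <;> rcases fin2_cases x2 with rfl | rfl <;> simp
    · rw [Function.update_of_ne hi, Pi.zero_apply, add_zero, swap_apply_of_ne_of_ne]
      · exact fun h => hi (congrArg Prod.fst h)
      · exact fun h => hi (congrArg Prod.fst h)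
  obtain ⟨k, hk⟩ := hP ⟨b * f, P.mul_mem (hAP hbA) (hJP (mkPair_mem _ _))⟩
  have hk' : (swap x y * swap x x' : Perm (Pt n)) ^ 2 ^ k = 1 := by
    have := congrArg (toPerm n) (congrArg Subtype.val hk)
    simpa [map_pow, toPerm, mul_p, one_p, hbp, hf] using this
  have h3' := Equiv.Perm.isThreeCycle_swap_mul_swap_same hxy hx'.symm hyx'
  have hdvd : 3 ∣ 2 ^ k := h3'.orderOf ▸ orderOf_dvd_of_pow_eq_one hk'
  exact absurd (Nat.Prime.dvd_of_dvd_pow Nat.prime_three hdvd) (by norm_num)

/-- Pairwise centre: the base vectors constant on pairs. -/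
theorem commutator_mem {a b : Wr n} (ha : a ∈ pairs n) (hb : b ∈ pairs n) :
    (a * b * a⁻¹ * b⁻¹) ∈ four (Finset.univ : Finset (Fin n)) ∧
      ∀ i, bit (a * b * a⁻¹ * b⁻¹) i = 0 := by
  set c := a * b * a⁻¹ * b⁻¹ with hc
  have hmem : c ∈ pairs n :=
    (pairs n).mul_mem ((pairs n).mul_mem ((pairs n).mul_mem ha hb) ((pairs n).inv_mem ha))
      ((pairs n).inv_mem hb)
  have e : c * (b * a) = a * b := by rw [hc]; group
  have hbit : ∀ i, bit c i = 0 := fun i => by
    have h := congrArg (fun w => bit w i) e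
    simp only [bit_mul hmem ((pairs n).mul_mem hb ha), bit_mul hb ha, bit_mul ha hb] at h
    revert h
    generalize bit c i = p
    generalize bit a i = q
    generalize bit b i = r
    revert p q r; decide
  refine ⟨⟨hmem, fun i _ => ?_, fun i hi => absurd (Finset.mem_univ i) hi⟩, hbit⟩
  have h0 := congrArg (fun w : Wr n => w.e (i, 0)) e
  have h1 := congrArg (fun w : Wr n => w.e (i, 1)) e
  simp only [mul_e_apply hmem, hbit, add_zero, mul_e_apply ha, mul_e_apply hb] at h0 h1
  revert h0 h1
  generalize bit a i = p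
  generalize bit b i = q
  generalize c.e (i, 0) = c₀
  generalize c.e (i, 1) = c₁
  rcases fin2_cases p with rfl | rfl <;> rcases fin2_cases q with rfl | rfl <;>
    simp only [zero_add, show (1 : Fin 2) + 1 = 0 from rfl, add_zero] <;>
    generalize a.e (i, 0) = a₀ <;> generalize a.e (i, 1) = a₁ <;>
    generalize b.e (i, 0) = b₀ <;> generalize b.e (i, 1) = b₁ <;>
    revert c₀ c₁ a₀ a₁ b₀ b₁ <;> decide

/-- Vectors constant on pairs are central in `pairs n`. -/
theorem bse_comm {v : Pt n → ZMod 2} (hv : ∀ i, v (i, 0) = v (i, 1)) {a : Wr n} (ha : a ∈ pairs n) :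
    a * bse v = bse v * a := by
  rw [← mul_inv_eq_iff_eq_mul, conj_bse]
  refine congrArg bse (funext fun ⟨i, j⟩ => ?_)
  rw [symm_apply_eq' ha]
  rcases fin2_cases j with rfl | rfl <;> rcases fin2_cases (bit a i) with e | e <;> rw [e] <;>
    simp [hv, show (1 : Fin 2) + 1 = 0 from rfl]

/-- Every involution of `C₂ ≀ S₂ₙ` is conjugate into `pairs n`. -/
theorem conj_into_pairs {w : Wr n} (hw : w * w = 1) : ∃ a : Wr n, a * w * a⁻¹ ∈ pairs n := by
  classical
  set π := w.p with hπdef
  have hπ : π ^ 2 = 1 := by rw [sq]; exact congrArg Wr.p hw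
  haveI : Fact (Nat.Prime 2) := ⟨Nat.prime_two⟩
  have hct := cycleType_of_pow_prime_eq_one hπ
  have hcard : Multiset.card π.cycleType ≤ n := by
    have h := π.sum_cycleType
    rw [hct, Multiset.sum_replicate, smul_eq_mul] at h
    have := Finset.card_le_univ π.support
    simp at this
    omega
  set k := Multiset.card π.cycleType
  let f := mkPair (0 : Pt n → ZMod 2) fun i => if (i : ℕ) < k then 1 else 0
  have hf2 : f.p ^ 2 = 1 := by
    rw [sq]
    refine Equiv.ext fun ⟨i, j⟩ => ?_
    show (i, j + (if (i : ℕ) < k then (1 : Fin 2) else 0) + (if (i : ℕ) < k then 1 else 0)) = (i, j)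
    refine Prod.ext rfl ?_
    show j + _ + _ = j
    generalize (if (i : ℕ) < k then (1 : Fin 2) else 0) = d
    revert j d; decide
  have hfs : f.p.support = (Finset.univ.filter fun i : Fin n => (i : ℕ) < k) ×ˢ
      (Finset.univ : Finset (Fin 2)) := by
    ext ⟨i, j⟩
    simp only [Equiv.Perm.mem_support, Finset.mem_product, Finset.mem_filter, Finset.mem_univ,
      true_and, and_true]
    show (i, j + if (i : ℕ) < k then (1 : Fin 2) else 0) ≠ (i, j) ↔ _
    by_cases hik : (i : ℕ) < k <;> simp [hik]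
  have hf : f.p.cycleType = π.cycleType := by
    have hcf := cycleType_of_pow_prime_eq_one hf2
    rw [hct, hcf]
    have h := f.p.sum_cycleType
    rw [hcf, Multiset.sum_replicate, smul_eq_mul, hfs, Finset.card_product, Finset.card_univ,
      Fintype.card_fin] at h
    have hk : (Finset.univ.filter fun i : Fin n => (i : ℕ) < k).card = k :=
      (Fin.card_filter_val_lt).trans (min_eq_right hcard)
    rw [hk] at h
    congr 1
    omega
  obtain ⟨σ, hσ⟩ := isConj_iff.1 (isConj_iff_cycleType_eq.2 hf.symm)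
  refine ⟨⟨0, σ⟩, fun x => ?_⟩
  rw [mul_p, mul_p, inv_p, hσ]
  exact mkPair_mem (0 : Pt n → ZMod 2) (fun i => if (i : ℕ) < k then 1 else 0) x

end CfsgLib.KondoFusion
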