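import Cfsg.Agent.KondoFusion.Transfer
import Cfsg.Agent.KondoFusion.Wreath

/-!
A group with an involution whose centraliser maps onto `C₂ ≀ S₂ₙ` with kernel of exponent 3:
the base group is weakly closed.
-/

set_option autoImplicit false
set_option linter.unusedSectionVars false
set_option linter.style.haveILetI false

namespace CfsgLib.KondoFusion

open Subgroup

universe u

variable {n : ℕ} {G : Type u} [Group G] [Finite G]

/-- The parity of the base component. -/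
def par (n : ℕ) : Wr n →* Multiplicative (ZMod 2) :=
  MonoidHom.mk' (fun a => Multiplicative.ofAdd (∑ x, a.e x)) fun a b => by
    rw [← ofAdd_add, mul_e]
    congr 1
    simp only [Pi.add_apply, Finset.sum_add_distrib]
    congr 1
    exact Equiv.sum_comp a.p.symm b.e

/-- The hypotheses, with a Sylow subgroup containing a lift of `pairs n`. -/
structure Setting (n : ℕ) (G : Type u) [Group G] where
  t : G
  S : Sylow 2 G
  ψ : G → Wr n
  ψ_mul : ∀ a b, a * t = t * a → b * t = t * b → ψ (a * b) = ψ a * ψ b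
  ψ_surj : ∀ w, ∃ a, a * t = t * a ∧ ψ a = w
  ψ_t : ψ t = tau n
  ker_three : ∀ k, k * t = t * k → ψ k = 1 → k ^ 3 = 1
  ker_inv : ∀ y k, y * t = t * y → k * t = t * k → ψ k = 1 → par n (ψ y) ≠ 1 → y * k * y⁻¹ = k⁻¹
  t_mem : t ∈ (S : Subgroup G)
  central : ∀ s ∈ (S : Subgroup G), s * t = t * s
  lift_pairs : ∀ w ∈ pairs n, ∃ a ∈ (S : Subgroup G), ψ a = w
  noIndexTwo : ∀ H : Subgroup G, H.Normal → H.index ≠ 2

/-- Conjugate of a subgroup. -/
def cj (g : G) (A : Subgroup G) : Subgroup G := A.map (MulAut.conj g).toMonoidHom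

theorem mem_cj {g x : G} {A : Subgroup G} : x ∈ cj g A ↔ g⁻¹ * x * g ∈ A := by
  constructor
  · rintro ⟨a, ha, rfl⟩
    simpa [mul_assoc] using ha
  · intro h
    exact ⟨_, h, by simp [mul_assoc]⟩

theorem conj_mem_cj {g x : G} {A : Subgroup G} (h : x ∈ A) : g * x * g⁻¹ ∈ cj g A :=
  ⟨x, h, rfl⟩

theorem cj_cj (g h : G) (A : Subgroup G) : cj g (cj h A) = cj (g * h) A := by
  ext x
  simp [mem_cj, mul_assoc]

theorem cj_one (A : Subgroup G) : cj 1 A = A := by ext x; simp [mem_cj]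

theorem cj_mono (g : G) {A B : Subgroup G} (h : A ≤ B) : cj g A ≤ cj g B := Subgroup.map_mono h

theorem card_cj (g : G) (A : Subgroup G) : Nat.card (cj g A) = Nat.card A :=
  (Nat.card_congr (A.equivMapOfInjective _ (MulAut.conj g).injective).toEquiv).symm

theorem isPGroup_cj (g : G) {A : Subgroup G} (h : IsPGroup 2 A) : IsPGroup 2 (cj g A) := h.map _

/-- Two `2`-subgroups of `H` lie in a common one after conjugating within `H`. -/
theorem exists_common {H A B : Subgroup G} (hA : IsPGroup 2 A) (hAH : A ≤ H) (hB : IsPGroup 2 B)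
    (hBH : B ≤ H) : ∃ c ∈ H, ∃ P : Subgroup G, IsPGroup 2 P ∧ A ≤ P ∧ cj c B ≤ P := by
  haveI : Fact (Nat.Prime 2) := ⟨Nat.prime_two⟩
  obtain ⟨R, hR⟩ := (hA.comap_subtype (K := H)).exists_le_sylow
  obtain ⟨R', hR'⟩ := (hB.comap_subtype (K := H)).exists_le_sylow
  obtain ⟨c, hc⟩ := MulAction.exists_smul_eq H R' R
  refine ⟨c, c.2, (R : Subgroup H).map H.subtype, R.2.map _, fun a ha =>
    ⟨⟨a, hAH ha⟩, hR (Subgroup.mem_subgroupOf.2 ha), rfl⟩, ?_⟩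
  rintro _ ⟨b, hb, rfl⟩
  refine ⟨c * ⟨b, hBH hb⟩ * c⁻¹, ?_, rfl⟩
  rw [← hc, SetLike.mem_coe, Sylow.coe_subgroup_smul]
  exact Subgroup.smul_mem_pointwise_smul _ (MulAut.conj c) _ (hR' (Subgroup.mem_subgroupOf.2 hb))

/-- A `2`-subgroup lies in a conjugate of a given Sylow subgroup. -/
theorem exists_le_cj (S : Sylow 2 G) {P : Subgroup G} (hP : IsPGroup 2 P) :
    ∃ h : G, cj h P ≤ S := by
  haveI : Fact (Nat.Prime 2) := ⟨Nat.prime_two⟩
  obtain ⟨c, -, Q, hQ, hSQ, hPQ⟩ := exists_common S.2 le_top hP le_top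
  exact ⟨c, hPQ.trans (le_of_eq (S.3 hQ hSQ))⟩

/-- A group of exponent two is a `2`-group. -/
theorem isPGroup_of_sq {A : Subgroup G} (h : ∀ a ∈ A, a * a = 1) : IsPGroup 2 A := fun a =>
  ⟨1, Subtype.ext (by simpa [sq] using h a a.2)⟩

namespace Setting

variable (X : Setting n G)

/-- The centraliser of `t`. -/
abbrev C : Subgroup G := centralizer {X.t}

theorem mem_C {a : G} : a ∈ X.C ↔ a * X.t = X.t * a := mem_centralizer_singleton_iff

theorem S_le : (X.S : Subgroup G) ≤ X.C := fun s hs => X.mem_C.2 (X.central s hs)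

theorem mul' {a b : G} (ha : a ∈ X.C) (hb : b ∈ X.C) : X.ψ (a * b) = X.ψ a * X.ψ b :=
  X.ψ_mul a b (X.mem_C.1 ha) (X.mem_C.1 hb)

theorem map_one : X.ψ 1 = 1 := by
  have h := X.mul' X.C.one_mem X.C.one_mem
  rw [mul_one] at h
  exact (left_eq_mul.1 h)

theorem map_inv {a : G} (ha : a ∈ X.C) : X.ψ a⁻¹ = (X.ψ a)⁻¹ := by
  rw [eq_inv_iff_mul_eq_one, ← X.mul' (X.C.inv_mem ha) ha, inv_mul_cancel, X.map_one]

theorem map_conj {a b : G} (ha : a ∈ X.C) (hb : b ∈ X.C) :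
    X.ψ (a * b * a⁻¹) = X.ψ a * X.ψ b * (X.ψ a)⁻¹ := by
  rw [X.mul' (X.C.mul_mem ha hb) (X.C.inv_mem ha), X.mul' ha hb, X.map_inv ha]

/-- `ψ` on the centraliser. -/
def hom : X.C →* Wr n := MonoidHom.mk' (fun a => X.ψ a) fun a b => X.mul' a.2 b.2

theorem inj_of_pgroup {P : Subgroup G} (hP : IsPGroup 2 P) (hPC : P ≤ X.C) {a b : G} (ha : a ∈ P)
    (hb : b ∈ P) (h : X.ψ a = X.ψ b) : a = b := by
  have hk : X.ψ (a⁻¹ * b) = 1 := by
    rw [X.mul' (X.C.inv_mem (hPC ha)) (hPC hb), X.map_inv (hPC ha), h, inv_mul_cancel]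
  have h3 := X.ker_three _ (X.mem_C.1 (X.C.mul_mem (X.C.inv_mem (hPC ha)) (hPC hb))) hk
  obtain ⟨k, hk2⟩ := hP ⟨a⁻¹ * b, P.mul_mem (P.inv_mem ha) hb⟩
  have h2 : (a⁻¹ * b) ^ 2 ^ k = 1 := by simpa using congrArg Subtype.val hk2
  have h1 := pow_gcd_eq_one.2 ⟨h3, h2⟩
  rw [(Nat.Coprime.pow_right k (show Nat.Coprime 3 2 by decide))] at h1
  rw [pow_one] at h1
  exact inv_mul_eq_one.1 h1

theorem inj {a b : G} (ha : a ∈ (X.S : Subgroup G)) (hb : b ∈ (X.S : Subgroup G))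
    (h : X.ψ a = X.ψ b) : a = b := X.inj_of_pgroup X.S.2 X.S_le ha hb h

/-- The preimage in `S`. -/
def lift (A : Subgroup (Wr n)) : Subgroup G where
  carrier := {a | a ∈ (X.S : Subgroup G) ∧ X.ψ a ∈ A}
  one_mem' := ⟨(X.S : Subgroup G).one_mem, by rw [X.map_one]; exact A.one_mem⟩
  mul_mem' := fun {a b} ha hb => ⟨(X.S : Subgroup G).mul_mem ha.1 hb.1, by
    rw [X.mul' (X.S_le ha.1) (X.S_le hb.1)]; exact A.mul_mem ha.2 hb.2⟩
  inv_mem' := fun {a} ha => ⟨(X.S : Subgroup G).inv_mem ha.1, by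
    rw [X.map_inv (X.S_le ha.1)]; exact A.inv_mem ha.2⟩

theorem mem_lift {A : Subgroup (Wr n)} {a : G} :
    a ∈ X.lift A ↔ a ∈ (X.S : Subgroup G) ∧ X.ψ a ∈ A := Iff.rfl

theorem lift_le (A : Subgroup (Wr n)) : X.lift A ≤ X.S := fun _ ha => ha.1

theorem lift_le_C (A : Subgroup (Wr n)) : X.lift A ≤ X.C := (X.lift_le A).trans X.S_le

theorem lift_isPGroup (A : Subgroup (Wr n)) : IsPGroup 2 (X.lift A) := X.S.2.to_le (X.lift_le A)

theorem card_lift {A : Subgroup (Wr n)} (hA : A ≤ pairs n) : Nat.card (X.lift A) = Nat.card A := by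
  refine Nat.card_congr (Equiv.ofBijective (fun a => ⟨X.ψ a, a.2.2⟩) ⟨fun a b h => ?_, fun w => ?_⟩)
  · exact Subtype.ext (X.inj a.2.1 b.2.1 (congrArg Subtype.val h))
  · obtain ⟨a, ha, haw⟩ := X.lift_pairs w (hA w.2)
    exact ⟨⟨a, ha, haw ▸ w.2⟩, Subtype.ext haw⟩

theorem exists_lift {A : Subgroup (Wr n)} (hA : A ≤ pairs n) {w : Wr n} (hw : w ∈ A) :
    ∃ a ∈ X.lift A, X.ψ a = w := by
  obtain ⟨a, ha, haw⟩ := X.lift_pairs w (hA hw)
  exact ⟨a, ⟨ha, haw ▸ hw⟩, haw⟩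

/-- The subgroup of pairs. -/
def J : Subgroup G := X.lift (pairs n)

/-- The base group. -/
def E : Subgroup G := X.lift (four ∅)

/-- The subgroup with one flipped pair. -/
def F (i : Fin n) : Subgroup G := X.lift (four {i})

theorem sq_one {A : Subgroup (Wr n)} (hA : ∀ w ∈ A, w * w = 1) {a : G} (ha : a ∈ X.lift A) :
    a * a = 1 := by
  refine X.inj ((X.S : Subgroup G).mul_mem ha.1 ha.1) (X.S : Subgroup G).one_mem ?_
  rw [X.mul' (X.S_le ha.1) (X.S_le ha.1), hA _ ha.2, X.map_one]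

theorem four_sq' {Y : Finset (Fin n)} {a : G} (ha : a ∈ X.lift (four Y)) : a * a = 1 :=
  X.sq_one (fun _ hw => four_sq hw) ha

theorem E_sq {a : G} (ha : a ∈ X.E) : a * a = 1 := X.four_sq' ha

theorem F_sq {i : Fin n} {a : G} (ha : a ∈ X.F i) : a * a = 1 := X.four_sq' ha

theorem E_le_J : X.E ≤ X.J := fun _ ha => ⟨ha.1, four_le_pairs _ ha.2⟩

theorem F_le_J (i : Fin n) : X.F i ≤ X.J := fun _ ha => ⟨ha.1, four_le_pairs _ ha.2⟩

theorem t_mem_E : X.t ∈ X.E := ⟨X.t_mem, by rw [X.ψ_t]; exact (four_empty _).2 rfl⟩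

theorem t_mem_F (i : Fin n) : X.t ∈ X.F i := by
  refine ⟨X.t_mem, ?_⟩
  rw [X.ψ_t]
  exact ⟨bse_mem_pairs _, fun _ _ => rfl, fun k _ => bit_bse _ k⟩

/-- The bound on elementary abelian subgroups of `S`. -/
theorem elem_le {A : Subgroup G} (hA : A ≤ X.S) (hsq : ∀ a ∈ A, a * a = 1) :
    Nat.card A ≤ 2 ^ (2 * n) ∧ (Nat.card A = 2 ^ (2 * n) → A ≤ X.J) := by
  let P : Subgroup (Wr n) := ((X.S : Subgroup G).subgroupOf X.C).map X.hom
  let B : Subgroup (Wr n) := (A.subgroupOf X.C).map X.hom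
  have hP : IsPGroup 2 P := X.S.2.comap_subtype.map _
  have hJ : pairs n ≤ P := fun w hw => by
    obtain ⟨a, ha, haw⟩ := X.lift_pairs w hw
    exact ⟨⟨a, X.S_le ha⟩, Subgroup.mem_subgroupOf.2 ha, haw⟩
  have hBP : B ≤ P := Subgroup.map_mono fun a ha => Subgroup.mem_subgroupOf.2 (hA ha)
  have hBsq : ∀ w ∈ B, w * w = 1 := by
    rintro _ ⟨a, ha, rfl⟩
    rw [← _root_.map_mul, show a * a = 1 from Subtype.ext (hsq _ ha), _root_.map_one]
  have hcard : Nat.card B = Nat.card A := by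
    refine (Nat.card_congr (Equiv.ofBijective (fun a : A => (⟨X.ψ a, ⟨(a : G), X.S_le (hA a.2)⟩,
      Subgroup.mem_subgroupOf.2 a.2, rfl⟩ : B)) ⟨fun a b h => ?_, ?_⟩)).symm
    · exact Subtype.ext (X.inj (hA a.2) (hA b.2) (congrArg Subtype.val h))
    · rintro ⟨_, a, ha, rfl⟩
      exact ⟨⟨a, Subgroup.mem_subgroupOf.1 ha⟩, rfl⟩
  obtain ⟨h1, h2⟩ := elem_bound hP hJ hBP hBsq
  rw [hcard] at h1 h2
  exact ⟨h1, fun h a ha =>
    ⟨hA ha, h2 h ⟨⟨a, X.S_le (hA ha)⟩, Subgroup.mem_subgroupOf.2 ha, rfl⟩⟩⟩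

theorem elem_cj_le {A : Subgroup G} (hcard : Nat.card A = 2 ^ (2 * n))
    (hsq : ∀ a ∈ A, a * a = 1) {g : G} (hg : cj g A ≤ X.S) : cj g A ≤ X.J := by
  refine (X.elem_le hg ?_).2 (by rw [card_cj, hcard])
  rintro _ ⟨a, ha, rfl⟩
  rw [← _root_.map_mul, hsq a ha, _root_.map_one]

theorem card_E : Nat.card X.E = 2 ^ (2 * n) := by
  rw [E, X.card_lift (four_le_pairs _), card_four]

theorem card_F (i : Fin n) : Nat.card (X.F i) = 2 ^ (2 * n) := by
  rw [F, X.card_lift (four_le_pairs _), card_four]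

/-- `J` is the only conjugate of `J` in `S`. -/
theorem J_unique {g : G} (hg : cj g X.J ≤ X.S) : cj g X.J = X.J := by
  refine Subgroup.eq_of_le_of_card_ge ?_ (by rw [card_cj])
  rintro _ ⟨a, ha, rfl⟩
  obtain ⟨b, hb, c, hc, hbc⟩ := pairs_factor ha.2
  obtain ⟨b', hb', hb''⟩ := X.exists_lift (four_le_pairs _) hb
  obtain ⟨c', hc', hc''⟩ := X.exists_lift (four_le_pairs _) hc
  have hab : a = b' * c' := X.inj ha.1 ((X.S : Subgroup G).mul_mem hb'.1 hc'.1) (by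
    rw [X.mul' (X.S_le hb'.1) (X.S_le hc'.1), hb'', hc'', hbc])
  have h1 : cj g X.E ≤ X.J :=
    X.elem_cj_le X.card_E (fun x hx => X.E_sq hx) ((cj_mono g X.E_le_J).trans hg)
  have h2 : cj g (X.lift (four Finset.univ)) ≤ X.J :=
    X.elem_cj_le (by rw [X.card_lift (four_le_pairs _), card_four]) (fun x hx => X.four_sq' hx)
      ((cj_mono g fun x (hx : x ∈ X.lift (four Finset.univ)) =>
        (⟨hx.1, four_le_pairs _ hx.2⟩ : x ∈ X.J)).trans hg)
  rw [hab, _root_.map_mul]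
  exact X.J.mul_mem (h1 ⟨b', hb', rfl⟩) (h2 ⟨c', hc', rfl⟩)

/-- `t` is invariant under the normaliser of `J`. -/
theorem norm_J {y : G} (hy : cj y X.J = X.J) : y ∈ X.C := by
  rw [X.mem_C]
  obtain ⟨w, hw, hw2⟩ := exists_root n
  obtain ⟨a, ha, haw⟩ := X.lift_pairs w hw
  have haJ : a ∈ X.J := ⟨ha, haw ▸ hw⟩
  have ha2 : a * a = X.t := X.inj ((X.S : Subgroup G).mul_mem ha ha) X.t_mem (by
    rw [X.mul' (X.S_le ha) (X.S_le ha), haw, hw2, X.ψ_t])
  have hmap : ∀ x ∈ X.J, y * x * y⁻¹ ∈ X.J := fun x hx => hy ▸ conj_mem_cj hx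
  have hmap' : ∀ x ∈ X.J, y⁻¹ * x * y ∈ X.J := fun x hx => by
    have : x ∈ cj y X.J := by rw [hy]; exact hx
    exact mem_cj.1 this
  set d := y * a * y⁻¹ with hd
  have hdJ : d ∈ X.J := hmap a haJ
  have hd2 : d * d = y * X.t * y⁻¹ := by rw [hd, ← ha2]; group
  by_contra hne
  have hψ : X.ψ d * X.ψ d ≠ tau n := by
    rw [← X.mul' (X.S_le hdJ.1) (X.S_le hdJ.1), ← X.ψ_t]
    intro h
    apply hne
    have := X.inj ((X.S : Subgroup G).mul_mem hdJ.1 hdJ.1) X.t_mem h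
    rw [hd2] at this
    rwa [mul_inv_eq_iff_eq_mul] at this
  obtain ⟨b, hb, c, hc, hb2, hc2, hbc⟩ := roots_not_commute hdJ.2 hψ
  obtain ⟨b', hb', hb''⟩ := X.exists_lift le_rfl hb
  obtain ⟨c', hc', hc''⟩ := X.exists_lift le_rfl hc
  have root : ∀ z ∈ X.J, X.ψ z * X.ψ z = X.ψ d * X.ψ d →
      X.ψ (y⁻¹ * z * y) * X.ψ (y⁻¹ * z * y) = tau n := by
    intro z hz h
    have hzz : z * z = d * d := X.inj ((X.S : Subgroup G).mul_mem hz.1 hz.1)
      ((X.S : Subgroup G).mul_mem hdJ.1 hdJ.1) (by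
        rw [X.mul' (X.S_le hz.1) (X.S_le hz.1), h, X.mul' (X.S_le hdJ.1) (X.S_le hdJ.1)])
    have hz' := X.S_le (hmap' z hz).1
    rw [← X.mul' hz' hz', ← X.ψ_t]
    congr 1
    calc y⁻¹ * z * y * (y⁻¹ * z * y) = y⁻¹ * (z * z) * y := by group
      _ = X.t := by rw [hzz, hd2]; group
  apply hbc
  have hcomm := roots_commute (hmap' b' hb').2 (hmap' c' hc').2 (root b' hb' (hb''.symm ▸ hb2))
    (root c' hc' (hc''.symm ▸ hc2))
  have hb1 := hmap' b' hb'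
  have hc1 := hmap' c' hc'
  rw [← X.mul' (X.S_le hb1.1) (X.S_le hc1.1), ← X.mul' (X.S_le hc1.1) (X.S_le hb1.1)] at hcomm
  have h := X.inj ((X.S : Subgroup G).mul_mem hb1.1 hc1.1)
    ((X.S : Subgroup G).mul_mem hc1.1 hb1.1) hcomm
  have h' : b' * c' = c' * b' :=
    calc b' * c' = y * (y⁻¹ * b' * y * (y⁻¹ * c' * y)) * y⁻¹ := by group
      _ = c' * b' := by rw [h]; group
  rw [← hb'', ← hc'', ← X.mul' (X.S_le hb'.1) (X.S_le hc'.1),
    ← X.mul' (X.S_le hc'.1) (X.S_le hb'.1), h']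

/-- Maximal elementary abelian subgroups are normal in `pairs n`. -/
theorem normalized {A : Subgroup G} (hA : A ≤ X.J) (hcard : Nat.card A = 2 ^ (2 * n))
    (hsq : ∀ a ∈ A, a * a = 1) {w : G} (hw : w ∈ X.J) {a : G} (ha : a ∈ A) :
    w * a * w⁻¹ ∈ A := by
  set c := w * a * w⁻¹ * a⁻¹ with hc
  have hcJ : c ∈ X.J := X.J.mul_mem (X.J.mul_mem (X.J.mul_mem hw (hA ha)) (X.J.inv_mem hw))
    (X.J.inv_mem (hA ha))
  have hψc : X.ψ c = X.ψ w * X.ψ a * (X.ψ w)⁻¹ * (X.ψ a)⁻¹ := by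
    rw [hc, X.mul' (X.C.mul_mem (X.C.mul_mem (X.S_le hw.1) (X.S_le (hA ha).1))
      (X.C.inv_mem (X.S_le hw.1))) (X.C.inv_mem (X.S_le (hA ha).1)),
      X.map_conj (X.S_le hw.1) (X.S_le (hA ha).1), X.map_inv (X.S_le (hA ha).1)]
  obtain ⟨hcu, hcb⟩ := commutator_mem hw.2 (hA ha).2
  rw [← hψc] at hcu hcb
  have hp : (X.ψ c).p = 1 := perm_eq_one hcu.1 hcb
  have hcc : ∀ x ∈ X.J, x * c = c * x := fun x hx =>
    X.inj (X.J.mul_mem hx hcJ).1 (X.J.mul_mem hcJ hx).1 (by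
      rw [X.mul' (X.S_le hx.1) (X.S_le hcJ.1), X.mul' (X.S_le hcJ.1) (X.S_le hx.1), eq_bse hp]
      exact bse_comm (fun i => hcu.2.1 i (Finset.mem_univ i)) hx.2)
  have hc2 : c * c = 1 := X.four_sq' (⟨hcJ.1, hcu⟩ : c ∈ X.lift (four Finset.univ))
  let B : Subgroup G :=
    { carrier := {x | x ∈ X.J ∧ (x ∈ A ∨ x * c ∈ A)}
      one_mem' := ⟨X.J.one_mem, Or.inl A.one_mem⟩
      mul_mem' := fun {x z} hx hz => ⟨X.J.mul_mem hx.1 hz.1, by
        rcases hx.2 with h1 | h1 <;> rcases hz.2 with h2 | h2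
        · exact Or.inl (A.mul_mem h1 h2)
        · exact Or.inr (by rw [mul_assoc]; exact A.mul_mem h1 h2)
        · refine Or.inr ?_
          rw [mul_assoc, hcc z hz.1, ← mul_assoc]
          exact A.mul_mem h1 h2
        · refine Or.inl ?_
          have := A.mul_mem h1 h2
          rwa [mul_assoc, ← mul_assoc c, ← hcc z hz.1, mul_assoc z, hc2, mul_one] at this⟩
      inv_mem' := fun {x} hx => ⟨X.J.inv_mem hx.1, by
        rcases hx.2 with h1 | h1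
        · exact Or.inl (A.inv_mem h1)
        · refine Or.inr ?_
          have := A.inv_mem h1
          rwa [mul_inv_rev, inv_eq_of_mul_eq_one_right hc2, ← hcc _ (X.J.inv_mem hx.1)] at this⟩ }
  have hAB : A ≤ B := fun x hx => ⟨hA hx, Or.inl hx⟩
  have hBsq : ∀ x ∈ B, x * x = 1 := by
    rintro x ⟨hxJ, h | h⟩
    · exact hsq x h
    · have := hsq _ h
      rwa [mul_assoc, ← mul_assoc c, ← hcc x hxJ, mul_assoc x c, hc2, mul_one] at this
  have hBA : A = B := Subgroup.eq_of_le_of_card_ge hAB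
    (hcard ▸ (X.elem_le (fun x (hx : x ∈ B) => hx.1.1) hBsq).1)
  have hcA : c ∈ A := by
    rw [hBA]
    exact ⟨hcJ, Or.inr (by rw [hc2]; exact A.one_mem)⟩
  have := A.mul_mem hcA ha
  rwa [hc, inv_mul_cancel_right] at this

/-- Fusion of maximal elementary abelian subgroups happens in the centraliser. -/
theorem fusion {A : Subgroup G} (hA : A ≤ X.J) (hcard : Nat.card A = 2 ^ (2 * n))
    (hsq : ∀ a ∈ A, a * a = 1) {g : G} (hg : cj g A ≤ X.S) :
    ∃ y ∈ X.C, cj y A = cj g A := by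
  set A' := cj g A with hA'
  have hA'J : A' ≤ X.J := X.elem_cj_le hcard hsq hg
  have hA'sq : ∀ a ∈ A', a * a = 1 := by
    rintro _ ⟨a, ha, rfl⟩
    rw [← _root_.map_mul, hsq a ha, _root_.map_one]
  have hN : ∀ {B : Subgroup G} {x : G}, (∀ w ∈ X.J, ∀ a ∈ B, w * a * w⁻¹ ∈ B) → x ∈ X.J →
      x ∈ normalizer (B : Set G) := by
    intro B x h hx
    rw [mem_normalizer_iff]
    refine fun a => ⟨fun ha => h x hx a ha, fun ha => ?_⟩
    have := h x⁻¹ (X.J.inv_mem hx) _ ha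
    simpa [mul_assoc] using this
  have h1 : X.J ≤ normalizer (A' : Set G) := fun x hx =>
    hN (fun w hw a ha => X.normalized hA'J (by rw [hA', card_cj, hcard]) hA'sq hw ha) hx
  have h2 : cj g X.J ≤ normalizer (A' : Set G) := by
    rintro _ ⟨x, hx, rfl⟩
    have hxA := hN (fun w hw a ha => X.normalized hA hcard hsq hw ha) hx
    rw [mem_normalizer_iff] at hxA ⊢
    intro a
    show a ∈ cj g A ↔ g * x * g⁻¹ * a * (g * x * g⁻¹)⁻¹ ∈ cj g A
    rw [mem_cj, mem_cj, hxA]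
    simp [mul_assoc]
  obtain ⟨c, hc, P, hP, hJP, hcP⟩ := exists_common (X.lift_isPGroup _) h1
    (isPGroup_cj g (X.lift_isPGroup (pairs n))) h2
  obtain ⟨h, hh⟩ := exists_le_cj X.S hP
  have e1 := X.J_unique ((cj_mono h hJP).trans hh)
  have e2 : cj (h * (c * g)) X.J = X.J := by
    refine X.J_unique ?_
    rw [← cj_cj, ← cj_cj c g]
    exact (cj_mono h hcP).trans hh
  have e3 : cj (c * g) X.J = X.J := by
    rw [← cj_cj] at e2
    have := congrArg (cj h⁻¹) (e2.trans e1.symm)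
    simp only [cj_cj, ← mul_assoc, inv_mul_cancel, one_mul, cj_one] at this
    exact this
  refine ⟨c * g, X.norm_J e3, ?_⟩
  rw [← cj_cj]
  show cj c A' = A'
  ext a
  rw [mem_cj]
  have := (mem_normalizer_iff.1 (Subgroup.inv_mem _ hc)) a
  rw [inv_inv] at this
  exact this.symm

/-- The base group is the only conjugate of itself in `S`. -/
theorem E_unique {g : G} (hg : cj g X.E ≤ X.S) : cj g X.E = X.E := by
  obtain ⟨y, hy, he⟩ := X.fusion X.E_le_J X.card_E (fun a ha => X.E_sq ha) hg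
  refine Subgroup.eq_of_le_of_card_ge ?_ (by rw [card_cj])
  intro a ha
  refine ⟨hg ha, ?_⟩
  rw [← he] at ha
  obtain ⟨b, hb, rfl⟩ := ha
  show X.ψ (y * b * y⁻¹) ∈ four ∅
  rw [X.map_conj hy (X.S_le hb.1), eq_bse ((four_empty _).1 hb.2), conj_bse]
  exact (four_empty _).2 rfl

/-- The base group is weakly closed. -/
theorem weakly_closed {P : Subgroup G} (hP : IsPGroup 2 P) (hE : X.E ≤ P) {g : G}
    (hg : cj g X.E ≤ P) : cj g X.E = X.E := by
  obtain ⟨h, hh⟩ := exists_le_cj X.S hP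
  have e1 := X.E_unique ((cj_mono h hE).trans hh)
  have e2 := X.E_unique (g := h * g) (by rw [← cj_cj]; exact (cj_mono h hg).trans hh)
  rw [← cj_cj] at e2
  have := congrArg (cj h⁻¹) (e2.trans e1.symm)
  simp only [cj_cj, ← mul_assoc, inv_mul_cancel, one_mul, cj_one] at this
  exact this

/-- The elements of a conjugate of `F i` in `S` flip at most one pair. -/
theorem F_conj_perm {i : Fin n} {g : G} (hg : cj g (X.F i) ≤ X.S) :
    ∃ y ∈ X.C, cj y (X.F i) = cj g (X.F i) :=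
  X.fusion (X.F_le_J i) (X.card_F i) (fun _ ha => X.F_sq ha) hg

/-- Lifts of elements of `Wr n` normalising the base group. -/
theorem exists_norm (w : Wr n) : ∃ y ∈ X.C, X.ψ y = w ∧ cj y X.E = X.E := by
  obtain ⟨y₀, hy₀, hy₀w⟩ := X.ψ_surj w
  replace hy₀ : y₀ ∈ X.C := X.mem_C.2 hy₀
  let M : Subgroup G :=
    { carrier := {a | a ∈ X.C ∧ (X.ψ a).p = 1}
      one_mem' := ⟨X.C.one_mem, by rw [X.map_one]; rfl⟩
      mul_mem' := fun {a b} ha hb => ⟨X.C.mul_mem ha.1 hb.1, by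
        rw [X.mul' ha.1 hb.1, mul_p, ha.2, hb.2, one_mul]⟩
      inv_mem' := fun {a} ha => ⟨X.C.inv_mem ha.1, by rw [X.map_inv ha.1, inv_p, ha.2, inv_one]⟩ }
  have hEM : X.E ≤ M := fun a ha => ⟨X.S_le ha.1, (four_empty _).1 ha.2⟩
  have hy₀E : cj y₀ X.E ≤ M := by
    rintro _ ⟨a, ha, rfl⟩
    refine ⟨X.C.mul_mem (X.C.mul_mem hy₀ (X.S_le ha.1)) (X.C.inv_mem hy₀), ?_⟩
    show (X.ψ (y₀ * a * y₀⁻¹)).p = 1
    rw [X.map_conj hy₀ (X.S_le ha.1), mul_p, mul_p, inv_p, (four_empty _).1 ha.2, mul_one,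
      mul_inv_cancel]
  obtain ⟨c, hc, P, hP, hEP, hcP⟩ := exists_common (X.lift_isPGroup _) hEM
    (isPGroup_cj y₀ (X.lift_isPGroup _)) hy₀E
  have e1 := X.weakly_closed hP hEP (g := c * y₀) (by rw [← cj_cj]; exact hcP)
  obtain ⟨b, hb, hbc⟩ := X.exists_lift (four_le_pairs ∅) ((four_empty _).2 hc.2)
  refine ⟨b⁻¹ * (c * y₀), X.C.mul_mem (X.C.inv_mem (X.S_le hb.1)) (X.C.mul_mem hc.1 hy₀), ?_, ?_⟩
  · rw [X.mul' (X.C.inv_mem (X.S_le hb.1)) (X.C.mul_mem hc.1 hy₀), X.mul' hc.1 hy₀,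
      X.map_inv (X.S_le hb.1), hbc, hy₀w, inv_mul_cancel_left]
  · rw [← cj_cj, e1]
    ext a
    rw [mem_cj, inv_inv]
    constructor
    · intro h
      have := X.E.mul_mem (X.E.mul_mem (X.E.inv_mem hb) h) hb
      simpa [mul_assoc] using this
    · intro h
      exact X.E.mul_mem (X.E.mul_mem hb h) (X.E.inv_mem hb)

/-- Involutions with equal images are conjugate. -/
theorem conj_of_eq {a b : G} (ha : a ∈ X.C) (hb : b ∈ X.C) (ha2 : a * a = 1) (hb2 : b * b = 1)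
    (h : X.ψ a = X.ψ b) : ∃ s : G, s * a * s⁻¹ = b := by
  set k := b * a⁻¹ with hk
  have hkC : k ∈ X.C := X.C.mul_mem hb (X.C.inv_mem ha)
  have hk1 : X.ψ k = 1 := by rw [hk, X.mul' hb (X.C.inv_mem ha), X.map_inv ha, h, mul_inv_cancel]
  have hk3 := X.ker_three k (X.mem_C.1 hkC) hk1
  have hai : a⁻¹ = a := inv_eq_of_mul_eq_one_left ha2
  have hkk : k * a * (k * a) = 1 := by
    rw [hk, inv_mul_cancel_right, hb2]
  have haka : a * k * a = k⁻¹ := by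
    rw [eq_inv_iff_mul_eq_one]
    calc a * k * a * k = k⁻¹ * (k * a * (k * a)) * k := by group
      _ = 1 := by rw [hkk, mul_one, inv_mul_cancel]
  refine ⟨k ^ 2, ?_⟩
  have : a * (k ^ 2)⁻¹ = k ^ 2 * a := by
    have e : (a * k * a) * (a * k * a) = (k ^ 2)⁻¹ := by
      rw [haka, sq]
      exact (mul_inv_rev k k).symm
    calc a * (k ^ 2)⁻¹ = a * ((a * k * a) * (a * k * a)) := by rw [e]
      _ = (a * a) * k * (a * a) * k * a := by group
      _ = k ^ 2 * a := by rw [ha2, sq]; simp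
  calc k ^ 2 * a * (k ^ 2)⁻¹ = k ^ 2 * (a * (k ^ 2)⁻¹) := by group
    _ = k ^ 3 * k * a := by rw [this, sq, pow_succ, sq]; group
    _ = b := by rw [hk3, one_mul, hk, inv_mul_cancel_right]

/-- Every involution is conjugate into `J`. -/
theorem conj_into_J {x : G} (hx : x * x = 1) : ∃ g : G, g * x * g⁻¹ ∈ X.J := by
  have hP : IsPGroup 2 (zpowers x) := isPGroup_of_sq (by
    intro a ha
    obtain ⟨k, rfl⟩ := mem_zpowers_iff.1 ha
    rw [← (Commute.refl x).mul_zpow, hx, one_zpow])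
  obtain ⟨h, hh⟩ := exists_le_cj X.S hP
  set x₁ := h * x * h⁻¹ with hx₁
  have hx₁S : x₁ ∈ (X.S : Subgroup G) := hh (conj_mem_cj (mem_zpowers x))
  have hx₁2 : x₁ * x₁ = 1 := by
    rw [hx₁]; calc h * x * h⁻¹ * (h * x * h⁻¹) = h * (x * x) * h⁻¹ := by group
      _ = 1 := by rw [hx, mul_one, mul_inv_cancel]
  obtain ⟨w, hw⟩ := conj_into_pairs (w := X.ψ x₁) (by
    rw [← X.mul' (X.S_le hx₁S) (X.S_le hx₁S), hx₁2, X.map_one])
  obtain ⟨y, hy, hyw⟩ := X.ψ_surj w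
  replace hy : y ∈ X.C := X.mem_C.2 hy
  set x₂ := y * x₁ * y⁻¹ with hx₂
  have hx₂C : x₂ ∈ X.C := X.C.mul_mem (X.C.mul_mem hy (X.S_le hx₁S)) (X.C.inv_mem hy)
  have hx₂p : X.ψ x₂ ∈ pairs n := by rw [hx₂, X.map_conj hy (X.S_le hx₁S), hyw]; exact hw
  have hx₂2 : x₂ * x₂ = 1 := by
    rw [hx₂]; calc y * x₁ * y⁻¹ * (y * x₁ * y⁻¹) = y * (x₁ * x₁) * y⁻¹ := by group
      _ = 1 := by rw [hx₁2, mul_one, mul_inv_cancel]
  obtain ⟨a, ha, hax⟩ := X.exists_lift le_rfl hx₂p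
  have ha2 : a * a = 1 := X.inj ((X.S : Subgroup G).mul_mem ha.1 ha.1) (X.S : Subgroup G).one_mem (by
    rw [X.mul' (X.S_le ha.1) (X.S_le ha.1), hax, ← X.mul' hx₂C hx₂C, hx₂2])
  obtain ⟨s, hs⟩ := X.conj_of_eq hx₂C (X.S_le ha.1) hx₂2 ha2 hax.symm
  refine ⟨s * (y * h), ?_⟩
  have : s * (y * h) * x * (s * (y * h))⁻¹ = a := by
    rw [← hs, hx₂, hx₁]; group
  rw [this]
  exact ha

end Setting

end CfsgLib.KondoFusion
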