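import Cfsg.Agent.KondoFusion.Local

/-!
Calculations in the subgroup of pairs.
-/

set_option autoImplicit false
set_option linter.unusedSectionVars false
set_option linter.style.haveILetI false

namespace CfsgLib.KondoFusion

open Subgroup Equiv Equiv.Perm

universe u

variable {n : ℕ} {G : Type u} [Group G] [Finite G]

/-- The indicator of a pair. -/
def pv (i : Fin n) : Pt n → ZMod 2 := fun x => if x.1 = i then 1 else 0

theorem pv_self (i : Fin n) (l : Fin 2) : pv i (i, l) = 1 := if_pos rfl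

theorem pv_ne {i k : Fin n} (h : k ≠ i) (l : Fin 2) : pv i (k, l) = 0 := if_neg h

theorem fin2_add_one : ∀ a b : Fin 2, a + b + b = a := by decide

namespace Setting

variable (X : Setting n G)

/-- The bit of an element at the pair `i`. -/
def bt (a : G) (i : Fin n) : Fin 2 := bit (X.ψ a) i

/-- The base component of an element. -/
def ee (a : G) : Pt n → ZMod 2 := (X.ψ a).e

variable {X}

theorem bt_mul {a b : G} (ha : a ∈ X.J) (hb : b ∈ X.J) (k : Fin n) :
    X.bt (a * b) k = X.bt a k + X.bt b k := by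
  rw [bt, X.mul' (X.S_le ha.1) (X.S_le hb.1), bit_mul ha.2 hb.2]
  rfl

theorem bt_inv {a : G} (ha : a ∈ X.J) (k : Fin n) : X.bt a⁻¹ k = X.bt a k := by
  have h := bt_mul (X.J.inv_mem ha) ha k
  rw [inv_mul_cancel, bt, X.map_one, bit_one] at h
  revert h
  generalize X.bt a⁻¹ k = c
  generalize X.bt a k = d
  revert c d; decide

theorem ee_mul {a : G} (ha : a ∈ X.J) {b : G} (hb : b ∈ X.J) (k : Fin n) (l : Fin 2) :
    X.ee (a * b) (k, l) = X.ee a (k, l) + X.ee b (k, l + X.bt a k) := by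
  rw [ee, X.mul' (X.S_le ha.1) (X.S_le hb.1), mul_e_apply ha.2]
  rfl

theorem J_ext {a b : G} (ha : a ∈ X.J) (hb : b ∈ X.J)
    (he : ∀ k l, X.ee a (k, l) = X.ee b (k, l)) (hp : ∀ k, X.bt a k = X.bt b k) : a = b :=
  X.inj ha.1 hb.1 (pairs_ext ha.2 hb.2 he hp)

theorem emb_mem_J (v : Pt n → ZMod 2) : X.emb v ∈ X.J := X.E_le_J (X.emb_mem v)

theorem bt_emb (v : Pt n → ZMod 2) (k : Fin n) : X.bt (X.emb v) k = 0 := by
  rw [bt, X.ψ_emb]; rfl

theorem ee_emb (v : Pt n → ZMod 2) : X.ee (X.emb v) = v := by rw [ee, X.ψ_emb]; rfl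

theorem bt_flip (i k : Fin n) : X.bt (X.flip i) k = Function.update (0 : Fin n → Fin 2) i 1 k := by
  rw [bt, X.ψ_flip, bit_mkPair]

theorem bt_flip_self (i : Fin n) : X.bt (X.flip i) i = 1 := by
  rw [bt_flip, Function.update_self]

theorem bt_flip_ne {i k : Fin n} (h : k ≠ i) : X.bt (X.flip i) k = 0 := by
  rw [bt_flip, Function.update_of_ne h]
  rfl

theorem ee_flip (i : Fin n) : X.ee (X.flip i) = 0 := by rw [ee, X.ψ_flip]; rfl

theorem flip_sq (i : Fin n) : X.flip i * X.flip i = 1 := X.F_sq (X.flip_mem_F i)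

theorem mem_F {i : Fin n} {a : G} :
    a ∈ X.F i ↔ a ∈ X.J ∧ X.ee a (i, 0) = X.ee a (i, 1) ∧ ∀ k, k ≠ i → X.bt a k = 0 := by
  refine ⟨fun h => ⟨X.F_le_J i h, h.2.2.1 i (Finset.mem_singleton_self i), fun k hk =>
    h.2.2.2 k (by simpa using hk)⟩, fun h => ⟨h.1.1, h.1.2, fun k hk => ?_, fun k hk => ?_⟩⟩
  · rw [Finset.mem_singleton] at hk
    subst hk
    exact h.2.1
  · exact h.2.2 k (by simpa using hk)

theorem F_const {i : Fin n} {a : G} (ha : a ∈ X.F i) (l : Fin 2) : X.ee a (i, l) = X.ee a (i, 0) := by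
  rcases fin2_cases l with rfl | rfl
  · rfl
  · exact (mem_F.1 ha).2.1.symm

theorem mem_E {a : G} : a ∈ X.E ↔ a ∈ X.J ∧ ∀ k, X.bt a k = 0 :=
  ⟨fun h => ⟨X.E_le_J h, fun k => h.2.2.2 k (Finset.notMem_empty k)⟩,
    fun h => ⟨h.1.1, h.1.2, fun k hk => absurd hk (Finset.notMem_empty k), fun k _ => h.2 k⟩⟩

/-- A base vector constant on pairs is central in `J`. -/
theorem emb_comm {v : Pt n → ZMod 2} (hv : ∀ k, v (k, 0) = v (k, 1)) {a : G} (ha : a ∈ X.J) :
    a * X.emb v = X.emb v * a := by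
  refine X.inj ((X.S : Subgroup G).mul_mem ha.1 (X.emb_mem v).1)
    ((X.S : Subgroup G).mul_mem (X.emb_mem v).1 ha.1) ?_
  rw [X.mul' (X.S_le ha.1) (X.S_le (X.emb_mem v).1), X.mul' (X.S_le (X.emb_mem v).1) (X.S_le ha.1),
    X.ψ_emb]
  exact bse_comm hv ha.2

/-- Conjugation of an element of `J` by a base element. -/
theorem conj_emb (v : Pt n → ZMod 2) {a : G} (ha : a ∈ X.J) :
    X.emb v * a * (X.emb v)⁻¹ = a * X.emb (fun x => v x + v (x.1, x.2 + X.bt a x.1)) := by
  rw [mul_inv_eq_iff_eq_mul, mul_assoc, ← X.emb_add]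
  refine J_ext (X.J.mul_mem (emb_mem_J v) ha) (X.J.mul_mem ha (emb_mem_J _)) (fun k l => ?_)
    fun k => ?_
  · rw [ee_mul (emb_mem_J v) ha, ee_mul ha (emb_mem_J _), bt_emb, ee_emb, ee_emb, add_zero,
      Pi.add_apply, fin2_add_one]
    generalize v (k, l) = p
    generalize X.ee a (k, l) = q
    generalize v (k, l + X.bt a k) = r
    revert p q r; decide
  · rw [bt_mul (emb_mem_J v) ha, bt_mul ha (emb_mem_J _), bt_emb, bt_emb, add_comm]

/-- Conjugation of an element of `F i` by the flip of another pair. -/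
theorem conj_flip {i k : Fin n} (hk : k ≠ i) {a : G} (ha : a ∈ X.F i) :
    X.flip k * a * (X.flip k)⁻¹ =
      a * X.emb (fun x => if x.1 = k then X.ee a (k, 0) + X.ee a (k, 1) else 0) := by
  have hka := (mem_F.1 ha).2.2
  have haJ := X.F_le_J i ha
  rw [mul_inv_eq_iff_eq_mul]
  refine J_ext (X.J.mul_mem (X.flip_mem k) haJ)
    (X.J.mul_mem (X.J.mul_mem haJ (emb_mem_J _)) (X.flip_mem k)) (fun j l => ?_) fun j => ?_
  · rw [ee_mul (X.flip_mem k) haJ, ee_mul (X.J.mul_mem haJ (emb_mem_J _)) (X.flip_mem k),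
      ee_mul haJ (emb_mem_J _), ee_flip, ee_emb, Pi.zero_apply, Pi.zero_apply, zero_add, add_zero]
    rcases eq_or_ne j k with rfl | hj
    · rw [bt_flip_self, hka j hk, if_pos rfl]
      rcases fin2_cases l with rfl | rfl <;>
        (try rw [show (1 : Fin 2) + 1 = 0 from rfl]) <;> (try rw [zero_add]) <;>
        generalize X.ee a (j, 0) = p <;> generalize X.ee a (j, 1) = q <;> revert p q <;> decide
    · rw [bt_flip_ne hj, if_neg hj, add_zero, add_zero]
  · rw [bt_mul (X.flip_mem k) haJ, bt_mul (X.J.mul_mem haJ (emb_mem_J _)) (X.flip_mem k),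
      bt_mul haJ (emb_mem_J _), bt_emb, add_zero, add_comm]

end Setting

end CfsgLib.KondoFusion
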