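import Mathlib

/-!
Additive permutations of `ι → ZMod 2` (`|ι|` even) in which the stabiliser of the all-one vector
consists of coordinate permutations: their orbits.
-/

set_option autoImplicit false
set_option linter.unusedSectionVars false
set_option linter.style.haveILetI false

namespace CfsgLib.KondoFusion.Frame

open Equiv Equiv.Perm Finset

variable {ι : Type*} [Fintype ι] [DecidableEq ι]

/-- The indicator vector of a set. -/
def ind (T : Finset ι) : ι → ZMod 2 := fun x => if x ∈ T then 1 else 0

/-- The weight of a vector. -/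
def wt (v : ι → ZMod 2) : ℕ := (Finset.univ.filter fun x => v x = 1).card

/-- The coordinate permutation. -/
def permV (π : Perm ι) : Perm (ι → ZMod 2) := Equiv.arrowCongr π (Equiv.refl _)

theorem permV_apply (π : Perm ι) (v : ι → ZMod 2) (x : ι) : permV π v x = v (π.symm x) := rfl

theorem zmod2_cases : ∀ d : ZMod 2, d = 0 ∨ d = 1 := by decide

theorem ind_filter (v : ι → ZMod 2) : ind (Finset.univ.filter fun x => v x = 1) = v := by
  funext x
  rcases zmod2_cases (v x) with e | e <;> simp [ind, e]

theorem wt_ind (T : Finset ι) : wt (ind T) = T.card := by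
  rw [wt]; congr 1; ext x; by_cases hx : x ∈ T <;> simp [ind, hx]

theorem wt_one : wt (1 : ι → ZMod 2) = Fintype.card ι := by simp [wt, Finset.card_univ]

theorem wt_one_add (v : ι → ZMod 2) : wt (1 + v) = Fintype.card ι - wt v := by
  rw [wt, wt, ← Finset.card_compl]
  congr 1; ext x
  rcases zmod2_cases (v x) with e | e <;> simp [e] <;> decide

theorem ind_union {S T : Finset ι} (h : Disjoint S T) : ind (S ∪ T) = ind S + ind T := by
  funext x
  by_cases hS : x ∈ S
  · simp [ind, hS, Finset.disjoint_left.1 h hS]
  · simp [ind, hS]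

theorem add_self (v : ι → ZMod 2) : v + v = 0 := funext fun _ => CharTwo.add_self_eq_zero _

theorem ind_empty : ind (∅ : Finset ι) = 0 := funext fun x => by simp [ind]

theorem ind_inj {S T : Finset ι} (h : ind S = ind T) : S = T := by
  ext x
  have := congrFun h x
  by_cases hS : x ∈ S <;> by_cases hT : x ∈ T <;> simp [ind, hS, hT] at this ⊢

theorem permV_ind (π : Perm ι) (T : Finset ι) : permV π (ind T) = ind (T.map π.toEmbedding) := by
  funext x
  simp [permV_apply, ind, Finset.mem_map_equiv]

theorem permV_one (π : Perm ι) : permV π (1 : ι → ZMod 2) = 1 := rfl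

theorem permV_add (π : Perm ι) (v w : ι → ZMod 2) : permV π (v + w) = permV π v + permV π w := rfl

theorem exists_perm {S T : Finset ι} (h : S.card = T.card) : ∃ π : Perm ι, S.map π.toEmbedding = T := by
  obtain ⟨e⟩ : Nonempty ({x // x ∈ S} ≃ {x // x ∈ T}) :=
    ⟨Fintype.equivOfCardEq (by simpa using h)⟩
  refine ⟨e.extendSubtype, ?_⟩
  refine Finset.eq_of_subset_of_card_le (fun y hy => ?_) (by rw [Finset.card_map, h])
  obtain ⟨x, hx, rfl⟩ := Finset.mem_map.1 hy
  exact e.extendSubtype_mem x hx

variable (X : Subgroup (Perm (ι → ZMod 2)))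

/-- The hypotheses. -/
structure Hyp : Prop where
  add : ∀ x ∈ X, ∀ v w : ι → ZMod 2, x (v + w) = x v + x w
  perm : ∀ π : Perm ι, permV π ∈ X
  stab : ∀ x ∈ X, x 1 = 1 → ∃ π : Perm ι, x = permV π
  even : Even (Fintype.card ι)

variable {X}

theorem Hyp.map_zero (h : Hyp X) {x : Perm (ι → ZMod 2)} (hx : x ∈ X) : x 0 = 0 := by
  have e := h.add x hx 0 0
  rw [add_zero] at e
  exact left_eq_add.1 e

/-- Both ends of the pair lie on the same side of `u`. -/
def Side (u : ι → ZMod 2) (i j : ι) : Prop := i ≠ j ∧ u i = u j

theorem Hyp.edge (h : Hyp X) {L : Perm (ι → ZMod 2)} (hL : L ∈ X) {u : ι → ZMod 2} (hu : L u = 1)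
    {i j : ι} (hij : Side u i j) : ∃ a b, a ≠ b ∧ L (ind {i, j}) = ind {a, b} ∧
      L * permV (swap i j) * L⁻¹ = permV (swap a b) := by
  obtain ⟨π, hπ⟩ := h.stab _ (X.mul_mem (X.mul_mem hL (h.perm (swap i j))) (X.inv_mem hL)) (by
    rw [Perm.mul_apply, Perm.mul_apply, show L⁻¹ 1 = u from Perm.inv_eq_iff_eq.2 hu.symm]
    have : permV (swap i j) u = u := funext fun x => by
      rw [permV_apply, symm_swap]
      rcases eq_or_ne x i with rfl | h1
      · rw [swap_apply_left]; exact hij.2.symm
      · rcases eq_or_ne x j with rfl | h2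
        · rw [swap_apply_right]; exact hij.2
        · rw [swap_apply_of_ne_of_ne h1 h2]
    rw [this, hu])
  set d := ind {i, j} with hd
  have hswap : ∀ w : ι → ZMod 2, permV (swap i j) w = w + (if w i = w j then 0 else d) := by
    intro w
    funext x
    rw [permV_apply, symm_swap, Pi.add_apply]
    split_ifs with hw
    · rcases eq_or_ne x i with rfl | h1
      · simp [hw]
      · rcases eq_or_ne x j with rfl | h2
        · simp [hw]
        · simp [swap_apply_of_ne_of_ne h1 h2]
    · rcases eq_or_ne x i with rfl | h1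
      · rw [swap_apply_left]
        simp only [hd, ind, Finset.mem_insert, true_or, if_true]
        revert hw
        generalize w x = p
        generalize w j = q
        revert p q; decide
      · rcases eq_or_ne x j with rfl | h2
        · rw [swap_apply_right]
          simp only [hd, ind, Finset.mem_insert, Finset.mem_singleton, or_true, if_true]
          revert hw
          generalize w i = p
          generalize w x = q
          revert p q; decide
        · simp [hd, ind, swap_apply_of_ne_of_ne h1 h2, h1, h2]
  have hkey : ∀ w, permV π (L w) = L w + (if w i = w j then 0 else L d) := by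
    intro w
    rw [← hπ, Perm.mul_apply, Perm.mul_apply, show L⁻¹ (L w) = w from L.symm_apply_apply w, hswap,
      h.add L hL]
    split_ifs
    · rw [h.map_zero hL]
    · rfl
  have hπ1 : π ≠ 1 := by
    intro e
    have := hkey (ind {i})
    rw [e, if_neg (by simp [ind, Ne.symm hij.1])] at this
    have h0 : L d = 0 := by
      have e1 : L (ind {i}) + 0 = L (ind {i}) + L d := by rw [add_zero]; exact this
      exact (add_left_cancel e1).symm
    rw [← h.map_zero hL] at h0
    have := congrFun (L.injective h0) i
    simp [hd, ind] at this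
  obtain ⟨a, ha⟩ : ∃ a, π a ≠ a := by
    by_contra hn
    push Not at hn
    exact hπ1 (Equiv.ext hn)
  have hvec : ∀ c, ind {π c} = ind {c} ∨ ind {π c} = ind {c} + L d := by
    intro c
    obtain ⟨w, hw⟩ := L.surjective (ind {c})
    have := hkey w
    rw [hw, permV_ind, Finset.map_singleton] at this
    by_cases hc : w i = w j
    · rw [if_pos hc, add_zero] at this
      exact Or.inl this
    · rw [if_neg hc] at this
      exact Or.inr this
  have hd' : L d = ind {a, π a} := by
    rcases hvec a with e | e
    · exact absurd (Finset.singleton_injective (ind_inj e)) ha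
    · rw [Finset.insert_eq, ind_union (by simpa using ha.symm), e]
      funext x
      simp only [Pi.add_apply]
      generalize ind {a} x = p
      generalize L d x = q
      revert p q; decide
  refine ⟨a, π a, ha.symm, hd', hπ.trans ?_⟩
  congr 1
  refine Equiv.ext fun c => ?_
  rcases eq_or_ne c a with rfl | h1
  · rw [swap_apply_left]
  rcases eq_or_ne c (π a) with rfl | h2
  · rw [swap_apply_right]
    rcases hvec (π a) with e | e
    · exact absurd (π.injective (Finset.singleton_injective (ind_inj e))) ha
    · rw [hd', Finset.insert_eq, ind_union (by simpa using ha.symm), add_comm, add_assoc] at e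
      refine Finset.singleton_injective (ind_inj (e.trans ?_))
      funext x
      simp only [Pi.add_apply]
      generalize ind {a} x = p
      generalize ind {π a} x = q
      simp [CharTwo.add_self_eq_zero]
  · rw [swap_apply_of_ne_of_ne h1 h2]
    rcases hvec c with e | e
    · exact Finset.singleton_injective (ind_inj e)
    · exfalso
      have h3 : Disjoint ({c} : Finset ι) {a, π a} := by simp [h1, h2]
      rw [hd', ← ind_union h3] at e
      have := congrArg Finset.card (ind_inj e)
      rw [Finset.card_union_of_disjoint h3, Finset.card_singleton, Finset.card_pair ha.symm] at this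
      omega

/-- Sums of disjoint same-side pairs go to sets of the same size. -/
theorem Hyp.even_set (h : Hyp X) {L : Perm (ι → ZMod 2)} (hL : L ∈ X) {u : ι → ZMod 2}
    (hu : L u = 1) : ∀ (k : ℕ) (T : Finset ι), T.card = k →
      Even (T.filter fun x => u x = 1).card → Even (T.filter fun x => u x = 0).card →
      ∃ T' : Finset ι, T'.card = k ∧ L (ind T) = ind T' ∧
        ∀ i j, Side u i j → Disjoint T {i, j} → ∀ a b, a ≠ b →
          L * permV (swap i j) * L⁻¹ = permV (swap a b) → Disjoint T' {a, b} := by
  intro k
  induction k using Nat.strong_induction_on with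
  | h k ih =>
  intro T hT h1 h0
  rcases Finset.eq_empty_or_nonempty T with rfl | ⟨i, hi⟩
  · exact ⟨∅, hT, by rw [ind_empty, h.map_zero hL], fun _ _ _ _ _ _ _ _ => Finset.disjoint_empty_left _⟩
  obtain ⟨j, hj, hij⟩ : ∃ j ∈ T, Side u i j := by
    have hev : Even (T.filter fun x => u x = u i).card := by
      rcases zmod2_cases (u i) with e | e <;> rw [e] <;> assumption
    have hmem : i ∈ T.filter fun x => u x = u i := Finset.mem_filter.2 ⟨hi, rfl⟩
    obtain ⟨j, hj, hne⟩ := Finset.exists_mem_ne (s := T.filter fun x => u x = u i) (by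
      obtain ⟨q, hq⟩ := hev
      have := Finset.card_pos.2 ⟨i, hmem⟩
      omega) i
    exact ⟨j, (Finset.mem_filter.1 hj).1, hne.symm, (Finset.mem_filter.1 hj).2.symm⟩
  set T₀ := T \ {i, j} with hT₀
  have hsub : ({i, j} : Finset ι) ⊆ T := by simp [Finset.insert_subset_iff, hi, hj]
  have hc0 : T₀.card + 2 = k := by
    rw [← hT, hT₀, ← Finset.card_pair hij.1, Finset.card_sdiff_add_card_eq_card hsub]
  have hfilt : ∀ e : ZMod 2, Even (T.filter fun x => u x = e).card →
      Even (T₀.filter fun x => u x = e).card := by
    intro e he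
    by_cases hie : u i = e
    · have e1 : (T₀.filter fun x => u x = e).card + 2 = (T.filter fun x => u x = e).card := by
        have : T.filter (fun x => u x = e) = T₀.filter (fun x => u x = e) ∪ {i, j} := by
          ext x
          simp only [hT₀, Finset.mem_filter, Finset.mem_union, Finset.mem_sdiff, Finset.mem_insert,
            Finset.mem_singleton]
          rcases eq_or_ne x i with rfl | hxi
          · simp [hi, hie]
          rcases eq_or_ne x j with rfl | hxj
          · simp [hj, hij.2.symm.trans hie]
          · simp [hxi, hxj]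
        rw [this, Finset.card_union_of_disjoint, Finset.card_pair hij.1]
        exact Finset.disjoint_left.2 fun x hx => (Finset.mem_sdiff.1 (Finset.mem_filter.1 hx).1).2
      rw [← e1] at he
      exact (Nat.even_add.1 he).2 ⟨1, rfl⟩
    · have : T₀.filter (fun x => u x = e) = T.filter (fun x => u x = e) := by
        ext x
        simp only [hT₀, Finset.mem_filter, Finset.mem_sdiff, Finset.mem_insert, Finset.mem_singleton]
        rcases eq_or_ne x i with rfl | hxi
        · simp [hie]
        rcases eq_or_ne x j with rfl | hxj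
        · simp [← hij.2, hie]
        · simp [hxi, hxj]
      rwa [this]
  obtain ⟨T', hT', hLT, hdis⟩ := ih T₀.card (by omega) T₀ rfl (hfilt 1 h1) (hfilt 0 h0)
  obtain ⟨a, b, hab, hLd, hconj⟩ := h.edge hL hu hij
  have hdT : Disjoint T₀ {i, j} := Finset.sdiff_disjoint
  have hd' := hdis i j hij hdT a b hab hconj
  refine ⟨T' ∪ {a, b}, by rw [Finset.card_union_of_disjoint hd', Finset.card_pair hab, hT']; omega,
    ?_, fun i' j' hij' hdisj a' b' hab' hconj' => ?_⟩
  · rw [show T = T₀ ∪ {i, j} from (Finset.sdiff_union_of_subset hsub).symm, ind_union hdT,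
      h.add L hL, hLT, hLd, ind_union hd']
  · rw [Finset.disjoint_union_left]
    refine ⟨hdis i' j' hij' (hdisj.mono_left Finset.sdiff_subset) a' b' hab' hconj', ?_⟩
    -- the two transpositions commute and differ
    have hdd : Disjoint ({i, j} : Finset ι) {i', j'} := hdisj.mono_left hsub
    have hpm : ∀ σ τ : Perm ι, permV (σ * τ) = permV σ * permV τ := fun σ τ => Equiv.ext fun _ => rfl
    have hinj : ∀ σ τ : Perm ι, permV σ = permV τ → σ = τ := by
      intro σ τ e
      refine Equiv.ext fun x => ?_
      have := Equiv.ext_iff.1 e (ind {x})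
      rw [permV_ind, permV_ind, Finset.map_singleton, Finset.map_singleton] at this
      exact Finset.singleton_injective (ind_inj this)
    have hc : swap i j * swap i' j' = swap i' j' * swap i j := by
      simp only [Finset.disjoint_insert_left, Finset.disjoint_singleton_left, Finset.mem_insert,
        Finset.mem_singleton, not_or] at hdd
      obtain ⟨⟨g1, g2⟩, g3, g4⟩ := hdd
      have hdj : Equiv.Perm.Disjoint (swap i j) (swap i' j') := fun x => by
        rcases eq_or_ne x i with rfl | e1
        · exact Or.inr (swap_apply_of_ne_of_ne g1 g2)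
        rcases eq_or_ne x j with rfl | e2
        · exact Or.inr (swap_apply_of_ne_of_ne g3 g4)
        exact Or.inl (swap_apply_of_ne_of_ne e1 e2)
      exact hdj.commute.eq
    have hc' : swap a b * swap a' b' = swap a' b' * swap a b := by
      refine hinj _ _ ?_
      rw [hpm, hpm, ← hconj, ← hconj']
      calc L * permV (swap i j) * L⁻¹ * (L * permV (swap i' j') * L⁻¹)
          = L * (permV (swap i j) * permV (swap i' j')) * L⁻¹ := by group
        _ = L * (permV (swap i' j') * permV (swap i j)) * L⁻¹ := by rw [← hpm, hc, hpm]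
        _ = _ := by group
    have hne : swap a b ≠ swap a' b' := by
      intro e
      rw [← e, ← hconj] at hconj'
      have e' := hinj _ _ (mul_left_cancel (mul_right_cancel hconj'))
      have h3 : swap i' j' i = i := by
        simp only [Finset.disjoint_insert_left, Finset.mem_insert, Finset.mem_singleton, not_or] at hdd
        exact swap_apply_of_ne_of_ne hdd.1.1 hdd.1.2
      rw [e', swap_apply_left] at h3
      exact hij.1 h3.symm
    have h4 : ∀ x, x = a ∨ x = b → x ≠ a' ∧ x ≠ b' := by
      intro x hx
      by_contra hn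
      rw [not_and_or, not_not, not_not] at hn
      apply hne
      have hmap : ∀ z, z = a ∨ z = b → swap a' b' z = a ∨ swap a' b' z = b := by
        intro z hz
        by_contra hn'
        rw [not_or] at hn'
        have e3 : swap a b (swap a' b' z) = swap a' b' z := swap_apply_of_ne_of_ne hn'.1 hn'.2
        rw [← Perm.mul_apply, hc', Perm.mul_apply] at e3
        have e4 := (swap a' b').injective e3
        rcases hz with rfl | rfl
        · exact hab (show b = z by rwa [swap_apply_left] at e4).symm
        · exact hab (by rwa [swap_apply_right] at e4)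
      rcases hn with rfl | rfl
      · have := hmap x hx
        rw [swap_apply_left] at this
        rcases hx with rfl | rfl <;> rcases this with rfl | rfl
        · exact absurd rfl hab'
        · rfl
        · exact swap_comm _ _
        · exact absurd rfl hab'
      · have := hmap x hx
        rw [swap_apply_right] at this
        rcases hx with rfl | rfl <;> rcases this with rfl | rfl
        · exact absurd rfl hab'
        · exact swap_comm _ _
        · rfl
        · exact absurd rfl hab'
    simp only [Finset.disjoint_insert_left, Finset.disjoint_singleton_left, Finset.mem_insert,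
      Finset.mem_singleton, not_or]
    exact ⟨h4 a (Or.inl rfl), h4 b (Or.inr rfl)⟩

/-- An image of the all-one vector other than itself has odd weight. -/
theorem Hyp.odd_weight (h : Hyp X) {x : Perm (ι → ZMod 2)} (hx : x ∈ X)
    (hne : x 1 ≠ 1) : Odd (wt (x 1)) := by
  set u := x 1 with hu
  have hL : x⁻¹ u = 1 := x.symm_apply_apply 1
  by_contra ho
  rw [Nat.not_odd_iff_even] at ho
  set T := Finset.univ.filter fun i => u i = 1 with hT
  obtain ⟨T', hT', hLT, -⟩ := h.even_set (X.inv_mem hx) hL T.card T rfl
    (by rw [hT, Finset.filter_filter]; simpa [and_self, wt] using ho)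
    (by
      have : (T.filter fun i => u i = 0) = ∅ := Finset.filter_eq_empty_iff.2 fun i hi e => by
        have := (Finset.mem_filter.1 hi).2
        rw [e] at this; exact absurd this (by decide)
      rw [this]; exact ⟨0, rfl⟩)
  rw [hT, ind_filter, hL] at hLT
  have e1 := congrArg wt hLT
  rw [wt_one, wt_ind, hT'] at e1
  apply hne
  have huniv : T = Finset.univ := Finset.eq_univ_of_card _ e1.symm
  funext i
  exact (Finset.mem_filter.1 (huniv ▸ Finset.mem_univ i : i ∈ T)).2

theorem eq_ind_singleton_of_wt {v : ι → ZMod 2} (hv : wt v = 1) : ∃ i, v = ind {i} := by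
  obtain ⟨i, hi⟩ := Finset.card_eq_one.1 hv
  exact ⟨i, by rw [← hi, ind_filter]⟩

/-- An image of the all-one vector has weight 1 or co-weight 1. -/
theorem Hyp.weight_cases (h : Hyp X) {x : Perm (ι → ZMod 2)} (hx : x ∈ X) (hne : x 1 ≠ 1) :
    wt (x 1) = 1 ∨ wt (1 + x 1) = 1 := by
  set u := x 1 with hu
  have hL : x⁻¹ u = 1 := x.symm_apply_apply 1
  have hodd := h.odd_weight hx hne
  rw [← hu] at hodd
  by_contra hn
  rw [not_or] at hn
  rw [wt_one_add] at hn
  set B := Finset.univ.filter fun i => u i = 1 with hB
  have hBw : B.card = wt u := rfl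
  have hBc : Bᶜ.card = Fintype.card ι - B.card := Finset.card_compl _
  have hle := Finset.card_le_univ B
  obtain ⟨m, hm⟩ := h.even
  obtain ⟨b, hb⟩ := hodd
  obtain ⟨T₁, hT₁B, hT₁⟩ := Finset.exists_subset_card_eq (s := B) (n := 2) (by omega)
  obtain ⟨T₂, hT₂B, hT₂⟩ := Finset.exists_subset_card_eq (s := Bᶜ) (n := 2) (by omega)
  have hu1 : ∀ i ∈ T₁, u i = 1 := fun i hi => (Finset.mem_filter.1 (hT₁B hi)).2
  have hu2 : ∀ i ∈ T₂, u i = 0 := fun i hi => by
    have := Finset.mem_compl.1 (hT₂B hi)
    rw [hB, Finset.mem_filter, not_and] at this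
    exact (zmod2_cases (u i)).resolve_right (this (Finset.mem_univ i))
  have hd : Disjoint T₁ T₂ := Finset.disjoint_left.2 fun i h1 h2 =>
    Finset.mem_compl.1 (hT₂B h2) (hT₁B h1)
  obtain ⟨T', hT', hLT, -⟩ := h.even_set (X.inv_mem hx) hL 4 (T₁ ∪ T₂)
    (by rw [Finset.card_union_of_disjoint hd, hT₁, hT₂])
    (by
      rw [Finset.filter_union, Finset.filter_true_of_mem hu1, Finset.filter_false_of_mem fun i hi e => by
        rw [hu2 i hi] at e; exact absurd e (by decide), Finset.union_empty, hT₁]
      exact ⟨1, rfl⟩)
    (by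
      rw [Finset.filter_union, Finset.filter_false_of_mem (s := T₁) fun i hi e => by
        rw [hu1 i hi] at e; exact absurd e (by decide), Finset.filter_true_of_mem hu2,
        Finset.empty_union, hT₂]
      exact ⟨1, rfl⟩)
  set W := (B \ T₁) ∪ T₂ with hW
  have hdW : Disjoint (B \ T₁) T₂ := Finset.disjoint_left.2 fun i h1 h2 =>
    Finset.mem_compl.1 (hT₂B h2) (Finset.mem_sdiff.1 h1).1
  have hWc : W.card = B.card := by
    rw [hW, Finset.card_union_of_disjoint hdW, Finset.card_sdiff_of_subset hT₁B, hT₁, hT₂]
    omega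
  have hWu : ind W = u + ind (T₁ ∪ T₂) := by
    rw [hW, ind_union hdW, ind_union hd]
    have : u = ind (B \ T₁) + ind T₁ := by
      rw [← ind_union Finset.sdiff_disjoint, Finset.sdiff_union_of_subset hT₁B, hB, ind_filter]
    rw [this]
    funext i
    simp only [Pi.add_apply]
    generalize ind (B \ T₁) i = p
    generalize ind T₁ i = q
    generalize ind T₂ i = r
    revert p q r
    decide
  obtain ⟨π, hπ⟩ := exists_perm hWc.symm
  have hWu' : ind W = (permV π * x) 1 := by
    rw [Perm.mul_apply, ← hu, ← hπ, ← permV_ind, hB, ind_filter]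
  have hy : x⁻¹ * (permV π * x) ∈ X := X.mul_mem (X.inv_mem hx) (X.mul_mem (h.perm π) hx)
  have hval : (x⁻¹ * (permV π * x)) 1 = 1 + ind T' := by
    rw [Perm.mul_apply, ← hWu', hWu, h.add _ (X.inv_mem hx), hL, hLT]
  have hne' : (x⁻¹ * (permV π * x)) 1 ≠ 1 := by
    rw [hval]
    intro e
    have e1 : (1 : ι → ZMod 2) + ind T' = 1 + ind ∅ := by rw [e, ind_empty, add_zero]
    have := ind_inj (add_left_cancel e1)
    rw [this, Finset.card_empty] at hT'
    omega
  have := h.odd_weight hy hne'
  rw [hval, wt_one_add, wt_ind, hT'] at this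
  obtain ⟨c, hc⟩ := this
  omega

/-- The two kinds of frames do not mix. -/
theorem Hyp.exclusive (h : Hyp X) (h4 : 4 ≤ Fintype.card ι) {x y : Perm (ι → ZMod 2)} (hx : x ∈ X)
    (hy : y ∈ X) {i j : ι} (hxi : x 1 = ind {i}) (hyj : y 1 = 1 + ind {j}) : False := by
  obtain ⟨j', hj'⟩ := Fintype.exists_ne_of_one_lt_card (show 1 < Fintype.card ι by omega) i
  set z := permV (swap j j') * y with hz
  have hzX : z ∈ X := X.mul_mem (h.perm _) hy
  have hz1 : z 1 = 1 + ind {j'} := by
    rw [hz, Perm.mul_apply, hyj, permV_add, permV_one, permV_ind, Finset.map_singleton]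
    simp
  have hL : x⁻¹ (ind {i}) = 1 := by rw [← hxi]; exact x.symm_apply_apply 1
  set T := (({i, j'} : Finset ι))ᶜ with hT
  have hTc : T.card = Fintype.card ι - 2 := by rw [hT, Finset.card_compl, Finset.card_pair hj'.symm]
  obtain ⟨m, hm⟩ := h.even
  obtain ⟨T', hT', hLT, -⟩ := h.even_set (X.inv_mem hx) hL T.card T rfl
    (by
      rw [Finset.filter_false_of_mem fun k hk e => by
        rw [hT, Finset.mem_compl, Finset.mem_insert, not_or] at hk
        simp [ind, hk.1] at e]
      exact ⟨0, rfl⟩)
    (by
      rw [Finset.filter_true_of_mem fun k hk => by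
        rw [hT, Finset.mem_compl, Finset.mem_insert, not_or] at hk
        simp [ind, hk.1]]
      exact ⟨m - 1, by omega⟩)
  have e : z 1 = ind {i} + ind T := by
    rw [hz1]
    funext k
    simp only [Pi.add_apply, Pi.one_apply, ind, hT, Finset.mem_compl, Finset.mem_insert,
      Finset.mem_singleton]
    rcases eq_or_ne k i with rfl | h1
    · simp [hj'.symm]
    · rcases eq_or_ne k j' with rfl | h2
      · simp [hj', CharTwo.add_self_eq_zero]
      · simp [h1, h2]
  have hval : (x⁻¹ * z) 1 = 1 + ind T' := by
    rw [Perm.mul_apply, e, h.add _ (X.inv_mem hx), hL, hLT]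
  have hne : (x⁻¹ * z) 1 ≠ 1 := by
    rw [hval]
    intro e
    have e1 : (1 : ι → ZMod 2) + ind T' = 1 + ind ∅ := by rw [e, ind_empty, add_zero]
    have := ind_inj (add_left_cancel e1)
    rw [this, Finset.card_empty] at hT'
    omega
  have := h.odd_weight (X.mul_mem (X.inv_mem hx) hzX) hne
  rw [hval, wt_one_add, wt_ind, hT'] at this
  obtain ⟨c, hc⟩ := this
  omega

/-- The frame: `1` and the other images of `1`, summing to zero. -/
theorem Hyp.exists_frame (h : Hyp X) {x₀ : Perm (ι → ZMod 2)} (hx₀ : x₀ ∈ X) (hne : x₀ 1 ≠ 1) :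
    ∃ F : Option ι → (ι → ZMod 2), F none = 1 ∧ Function.Injective F ∧
      (∀ o, ∃ x ∈ X, x 1 = F o) ∧ (∀ x ∈ X, ∃ o, x 1 = F o) ∧
      (∀ π o, permV π (F o) = F (o.map π)) ∧ (∑ o, F o) = 0 ∧
      ∀ S : Finset (Option ι), (∑ o ∈ S, F o) = 0 → S = ∅ ∨ S = Finset.univ := by
  obtain ⟨m, hm⟩ := h.even
  have hzero : ∀ x ∈ X, x 1 ≠ 0 := fun x hx e => by
    haveI : Nonempty ι := by
      by_contra hi
      rw [not_nonempty_iff] at hi
      exact hne (funext fun i => IsEmpty.false i |>.elim)
    rw [← h.map_zero hx] at e
    have := congrFun (x.injective e) (Classical.arbitrary ι)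
    simp at this
  have hcard : 2 ≤ Fintype.card ι := by
    by_contra hc
    have : IsEmpty ι := Fintype.card_eq_zero_iff.1 (by omega)
    exact hne (funext fun i => IsEmpty.false i |>.elim)
  have hind : ∀ (i k : ι), ind ({i} : Finset ι) k = if k = i then 1 else 0 := fun i k => by
    simp [ind]
  have h1add : ∀ v : ι → ZMod 2, 1 + (1 + v) = v := fun v => by
    rw [← add_assoc, add_self, zero_add]
  by_cases hA : ∃ x ∈ X, wt (x 1) = 1
  · obtain ⟨x₁, hx₁, hw⟩ := hA
    obtain ⟨i₁, hi₁⟩ := eq_ind_singleton_of_wt hw
    refine ⟨fun o => o.elim 1 fun i => ind {i}, rfl, ?_, ?_, ?_, ?_, ?_, ?_⟩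
    · rintro (_ | i) (_ | j) e
      · rfl
      · have := congrArg wt e
        simp only [Option.elim, wt_one, wt_ind, Finset.card_singleton] at this
        omega
      · have := congrArg wt e
        simp only [Option.elim, wt_one, wt_ind, Finset.card_singleton] at this
        omega
      · exact congrArg some (Finset.singleton_injective (ind_inj e))
    · rintro (_ | i)
      · exact ⟨1, X.one_mem, rfl⟩
      · refine ⟨permV (swap i₁ i) * x₁, X.mul_mem (h.perm _) hx₁, ?_⟩
        rw [Perm.mul_apply, hi₁, permV_ind, Finset.map_singleton]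
        simp
    · intro x hx
      by_cases hx1 : x 1 = 1
      · exact ⟨none, hx1⟩
      rcases h.weight_cases hx hx1 with e | e
      · obtain ⟨i, hi⟩ := eq_ind_singleton_of_wt e
        exact ⟨some i, hi⟩
      · obtain ⟨i, hi⟩ := eq_ind_singleton_of_wt e
        have hx' : x 1 = 1 + ind {i} := by rw [← hi, h1add]
        rcases Nat.lt_or_ge (Fintype.card ι) 4 with hlt | hge
        · have h2 : wt (x 1) = 1 := by rw [hx', wt_one_add, wt_ind, Finset.card_singleton]; omega
          obtain ⟨k, hk⟩ := eq_ind_singleton_of_wt h2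
          exact ⟨some k, hk⟩
        · exact (h.exclusive hge hx₁ hx hi₁ hx').elim
    · rintro π (_ | i)
      · exact permV_one π
      · simp [permV_ind]
    · funext k
      rw [Fintype.sum_option, Pi.add_apply, Finset.sum_apply]
      simp only [Option.elim, hind, Pi.one_apply, Finset.sum_ite_eq, Finset.mem_univ, if_true,
        Pi.zero_apply]
      exact CharTwo.add_self_eq_zero _
    · intro S hS
      have hk : ∀ k, (if none ∈ S then (1 : ZMod 2) else 0) + (if some k ∈ S then 1 else 0) = 0 := by
        intro k
        have := congrFun hS k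
        rw [Finset.sum_apply, Pi.zero_apply, ← Finset.sum_ite_mem_eq, Fintype.sum_option] at this
        change (if none ∈ S then (1 : ZMod 2) else 0) +
          (∑ l : ι, if some l ∈ S then ind {l} k else 0) = 0 at this
        rw [Finset.sum_eq_single k (fun l _ hl => by rw [hind, if_neg (Ne.symm hl)]; simp)
          (fun hk' => absurd (Finset.mem_univ k) hk'), hind, if_pos rfl] at this
        exact this
      by_cases hn : none ∈ S
      · refine Or.inr (Finset.eq_univ_of_forall ?_)
        rintro (_ | k)
        · exact hn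
        · by_contra hk'
          have := hk k
          simp [hn, hk'] at this
      · refine Or.inl (Finset.eq_empty_of_forall_notMem ?_)
        rintro (_ | k) hk'
        · exact hn hk'
        · have := hk k
          simp [hn, hk'] at this
  · push Not at hA
    obtain ⟨i₁, hi₁⟩ := eq_ind_singleton_of_wt ((h.weight_cases hx₀ hne).resolve_left (hA x₀ hx₀))
    have hx₀' : x₀ 1 = 1 + ind {i₁} := by rw [← hi₁, h1add]
    refine ⟨fun o => o.elim 1 fun i => 1 + ind {i}, rfl, ?_, ?_, ?_, ?_, ?_, ?_⟩
    · rintro (_ | i) (_ | j) e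
      · rfl
      · have := congrFun e j
        simp [hind] at this
      · have := congrFun e i
        simp [hind] at this
      · exact congrArg some (Finset.singleton_injective (ind_inj (add_left_cancel e)))
    · rintro (_ | i)
      · exact ⟨1, X.one_mem, rfl⟩
      · refine ⟨permV (swap i₁ i) * x₀, X.mul_mem (h.perm _) hx₀, ?_⟩
        rw [Perm.mul_apply, hx₀', permV_add, permV_one, permV_ind, Finset.map_singleton]
        simp
    · intro x hx
      by_cases hx1 : x 1 = 1
      · exact ⟨none, hx1⟩
      obtain ⟨i, hi⟩ := eq_ind_singleton_of_wt ((h.weight_cases hx hx1).resolve_left (hA x hx))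
      exact ⟨some i, by show x 1 = 1 + ind {i}; rw [← hi, h1add]⟩
    · rintro π (_ | i)
      · exact permV_one π
      · simp [permV_ind, permV_add, permV_one]
    · funext k
      rw [Fintype.sum_option, Pi.add_apply, Finset.sum_apply]
      simp only [Option.elim, hind, Pi.one_apply, Pi.add_apply, Finset.sum_add_distrib,
        Finset.sum_ite_eq, Finset.mem_univ, if_true, Finset.sum_const, Finset.card_univ, hm]
      rw [nsmul_eq_mul, Nat.cast_add, CharTwo.add_self_eq_zero, zero_mul, zero_add, Pi.zero_apply]
      exact CharTwo.add_self_eq_zero _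
    · intro S hS
      set c : ZMod 2 := (if none ∈ S then 1 else 0) +
        ∑ l : ι, (if some l ∈ S then (1 : ZMod 2) else 0) with hcdef
      have hk : ∀ k, c + (if some k ∈ S then 1 else 0) = 0 := by
        intro k
        have := congrFun hS k
        rw [Finset.sum_apply, Pi.zero_apply, ← Finset.sum_ite_mem_eq, Fintype.sum_option] at this
        rw [hcdef, add_assoc]
        change (if none ∈ S then (1 : ZMod 2) else 0) +
          (∑ l : ι, if some l ∈ S then ((1 : ι → ZMod 2) + ind {l}) k else 0) = 0 at this
        convert this using 2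
        show _ = ∑ l : ι, if some l ∈ S then ((1 : ι → ZMod 2) + ind {l}) k else 0
        simp only [hind, Pi.add_apply, Pi.one_apply]
        rw [show (∑ l : ι, if some l ∈ S then (1 : ZMod 2) + (if k = l then 1 else 0) else 0) =
          ∑ l : ι, ((if some l ∈ S then 1 else 0) + (if k = l then (if some k ∈ S then 1 else 0) else 0))
          from Finset.sum_congr rfl fun l _ => by
            rcases eq_or_ne k l with rfl | hkl
            · by_cases hl : some k ∈ S <;> simp [hl]
            · by_cases hl : some l ∈ S <;> simp [hl, hkl]]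
        rw [Finset.sum_add_distrib, Finset.sum_ite_eq, if_pos (Finset.mem_univ k)]
      have hsome : ∀ k, (if some k ∈ S then (1 : ZMod 2) else 0) = c := fun k => by
        have := hk k
        rwa [CharTwo.add_eq_zero, eq_comm] at this
      rcases zmod2_cases c with hc | hc
      · refine Or.inl (Finset.eq_empty_of_forall_notMem ?_)
        rintro (_ | k) hk'
        · rw [hcdef, if_pos hk', Finset.sum_congr rfl fun l _ => hsome l, Finset.sum_const,
            Finset.card_univ, hm, nsmul_eq_mul, Nat.cast_add, CharTwo.add_self_eq_zero,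
            zero_mul, add_zero] at hc
          exact absurd hc (by decide)
        · have := hsome k
          rw [if_pos hk', hc] at this
          exact absurd this (by decide)
      · refine Or.inr (Finset.eq_univ_of_forall ?_)
        rintro (_ | k)
        · by_contra hn
          rw [hcdef, if_neg hn, Finset.sum_congr rfl fun l _ => hsome l, Finset.sum_const,
            Finset.card_univ, hm, nsmul_eq_mul, Nat.cast_add, CharTwo.add_self_eq_zero,
            zero_mul, add_zero] at hc
          exact absurd hc (by decide)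
        · by_contra hk'
          have := hsome k
          rw [if_neg hk', hc] at this
          exact absurd this (by decide)

/-- The orbits are numbered by half the size of the even set of frame vectors. -/
theorem Hyp.orbits (h : Hyp X) {x₀ : Perm (ι → ZMod 2)} (hx₀ : x₀ ∈ X) (hne : x₀ 1 ≠ 1) {n : ℕ}
    (hn : Fintype.card ι = 2 * n) :
    ∃ k : (ι → ZMod 2) → ℕ, (∀ x ∈ X, ∀ v, k (x v) = k v) ∧
      (∀ v, v ≠ 0 → 1 ≤ k v ∧ k v ≤ n) ∧
      (∀ c, 1 ≤ c → c ≤ n → ∃ v, v ≠ 0 ∧ k v = c) ∧
      ∀ v w, k v = k w → ∃ x ∈ X, x v = w := by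
  classical
  obtain ⟨F, hF0, hFinj, hFmem, hFsurj, hFperm, hFsum, hFker⟩ := h.exists_frame hx₀ hne
  let Φ : Finset (Option ι) → (ι → ZMod 2) := fun S => ∑ o ∈ S, F o
  let ev : Finset ι → Finset (Option ι) := fun T =>
    if Even T.card then T.map Function.Embedding.some else insert none (T.map Function.Embedding.some)
  have hev : ∀ T, Even (ev T).card := by
    intro T
    by_cases hT : Even T.card
    · simp [ev, hT]
    · simp only [ev, if_neg hT]
      rw [Finset.card_insert_of_notMem (by simp), Finset.card_map, Nat.even_add_one]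
      exact hT
  have hcardOpt : Fintype.card (Option ι) = 2 * n + 1 := by rw [Fintype.card_option, hn]
  have hΦadd : ∀ S S' : Finset (Option ι), Φ S + Φ S' = Φ (symmDiff S S') := by
    intro S S'
    funext i
    simp only [Φ, Pi.add_apply, Finset.sum_apply]
    rw [← Finset.sum_ite_mem_eq S, ← Finset.sum_ite_mem_eq S', ← Finset.sum_ite_mem_eq (symmDiff S S'),
      ← Finset.sum_add_distrib]
    refine Finset.sum_congr rfl fun o _ => ?_
    by_cases h1 : o ∈ S <;> by_cases h2 : o ∈ S' <;>
      simp [Finset.mem_symmDiff, h1, h2, CharTwo.add_self_eq_zero]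
  have hevinj : ∀ S S' : Finset (Option ι), Even S.card → Even S'.card → Φ S = Φ S' → S = S' := by
    intro S S' hS hS' e
    have h0 : Φ (symmDiff S S') = 0 := by
      rw [← hΦadd, e, add_self]
    have hcard : (symmDiff S S').card + 2 * (S ∩ S').card = S.card + S'.card := by
      have h1 := Finset.card_sdiff_add_card_inter S S'
      have h2 := Finset.card_sdiff_add_card_inter S' S
      rw [Finset.inter_comm S' S] at h2
      rw [symmDiff, Finset.sup_eq_union, Finset.card_union_of_disjoint disjoint_sdiff_sdiff]
      omega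
    rcases hFker _ h0 with e' | e'
    · exact symmDiff_eq_bot.1 (by simpa using e')
    · exfalso
      rw [e', Finset.card_univ, hcardOpt] at hcard
      obtain ⟨a, ha⟩ := hS
      obtain ⟨b, hb⟩ := hS'
      omega
  have hbij : Function.Bijective (Φ ∘ ev) := by
    rw [Fintype.bijective_iff_injective_and_card]
    refine ⟨fun T T' e => ?_, by simp⟩
    have e' := hevinj _ _ (hev T) (hev T') e
    ext i
    have := Finset.ext_iff.1 e' (some i)
    have hmem : ∀ T, some i ∈ ev T ↔ i ∈ T := fun T => by
      simp only [ev]; split_ifs <;> simp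
    rwa [hmem, hmem] at this
  have hsurj : ∀ v, ∃ S : Finset (Option ι), Even S.card ∧ Φ S = v := fun v => by
    obtain ⟨T, hT⟩ := hbij.2 v
    exact ⟨ev T, hev T, hT⟩
  choose Sv hSv hSvΦ using hsurj
  have hperm : ∀ x ∈ X, ∀ o, ∃ o', x (F o) = F o' := by
    intro x hx o
    obtain ⟨y, hy, hy1⟩ := hFmem o
    obtain ⟨o', ho'⟩ := hFsurj _ (X.mul_mem hx hy)
    exact ⟨o', by rw [← ho', Perm.mul_apply, hy1]⟩
  choose σ hσ using hperm
  have hσinj : ∀ x (hx : x ∈ X), Function.Injective (σ x hx) := fun x hx a b e =>
    hFinj (x.injective (by rw [hσ x hx a, hσ x hx b, e]))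
  have hsum : ∀ x (hx : x ∈ X) (S : Finset (Option ι)),
      x (Φ S) = Φ (S.map ⟨σ x hx, hσinj x hx⟩) := by
    intro x hx S
    induction S using Finset.induction with
    | empty => simp [Φ, h.map_zero hx]
    | insert o S ho ih =>
      simp only [Φ] at ih ⊢
      rw [Finset.sum_insert ho, h.add x hx, ih, Finset.map_insert, Finset.sum_insert (by
        simp [ho, (hσinj x hx).eq_iff]), hσ x hx o]
      rfl
  have hS0 : ∀ v, v ≠ 0 → (Sv v).Nonempty := fun v hv => Finset.nonempty_iff_ne_empty.2 fun e =>
    hv (by rw [← hSvΦ v, e]; simp [Φ])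
  refine ⟨fun v => (Sv v).card / 2, fun x hx v => ?_, fun v hv => ?_, fun c hc hc' => ?_,
    fun v w e => ?_⟩
  · have e := hevinj _ _ (hSv (x v)) (show Even ((Sv v).map ⟨σ x hx, hσinj x hx⟩).card by
      rw [Finset.card_map]; exact hSv v) (by rw [hSvΦ, ← hsum, hSvΦ])
    show (Sv (x v)).card / 2 = (Sv v).card / 2
    rw [e, Finset.card_map]
  · obtain ⟨a, ha⟩ := hSv v
    have := Finset.card_pos.2 (hS0 v hv)
    have h1 := Finset.card_le_univ (Sv v)
    rw [hcardOpt] at h1
    show 1 ≤ (Sv v).card / 2 ∧ (Sv v).card / 2 ≤ n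
    omega
  · obtain ⟨S, hS⟩ : ∃ S : Finset (Option ι), S.card = 2 * c := by
      obtain ⟨S, -, hS⟩ := Finset.exists_subset_card_eq (s := (Finset.univ : Finset (Option ι)))
        (n := 2 * c) (by rw [Finset.card_univ, hcardOpt]; omega)
      exact ⟨S, hS⟩
    have e := hevinj _ _ (hSv (Φ S)) (hS ▸ even_two_mul c) (hSvΦ _)
    refine ⟨Φ S, fun h0 => ?_, by show (Sv (Φ S)).card / 2 = c; rw [e, hS]; omega⟩
    have : S = ∅ := hevinj _ _ (hS ▸ even_two_mul c) ⟨0, rfl⟩ (h0.trans (by simp [Φ]))
    rw [this, Finset.card_empty] at hS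
    omega
  · obtain ⟨a, ha⟩ := hSv v
    obtain ⟨b, hb⟩ := hSv w
    obtain ⟨p, hp⟩ := exists_perm (show (Sv v).card = (Sv w).card by
      change (Sv v).card / 2 = (Sv w).card / 2 at e; omega)
    obtain ⟨y, hy, hy1⟩ := hFmem (p none)
    -- `y` moves `none` to `p none`
    have hyn : σ y hy none = p none := hFinj (by rw [← hσ y hy none, hF0, hy1])
    let σy : Perm (Option ι) := Equiv.ofBijective _ (Finite.injective_iff_bijective.1 (hσinj y hy))
    have hq0 : (σy⁻¹ * p) none = none := by
      rw [Perm.mul_apply, ← hyn]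
      exact σy.symm_apply_apply none
    obtain ⟨π, hπ⟩ : ∃ π : Perm ι, ∀ o, (σy⁻¹ * p) o = o.map π := by
      refine ⟨Equiv.removeNone (σy⁻¹ * p), ?_⟩
      rintro (_ | i)
      · exact hq0
      · rw [Option.map_some]
        refine (Equiv.removeNone_some _ ?_).symm
        by_contra hn'
        push Not at hn'
        exact (Option.some_ne_none i) ((σy⁻¹ * p).injective ((Option.eq_none_iff_forall_ne_some.2
          fun a => hn' a).trans hq0.symm))
    refine ⟨y * permV π, X.mul_mem hy (h.perm π), ?_⟩
    rw [← hSvΦ v, ← hSvΦ w, ← hp, hsum _ (X.mul_mem hy (h.perm π))]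
    congr 2
    refine Function.Embedding.ext fun o => hFinj ?_
    show F (σ _ _ o) = F (p o)
    rw [← hσ _ (X.mul_mem hy (h.perm π)) o, Perm.mul_apply, hFperm, hσ y hy]
    congr 1
    rw [← hπ]
    exact σy.apply_symm_apply (p o)

end CfsgLib.KondoFusion.Frame
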