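import Cfsg.Agent.KondoFusion.Step

/-!
Every involution is conjugate into the base group, and the classes are counted by the automizer.
-/

set_option autoImplicit false
set_option linter.unusedSectionVars false
set_option linter.style.haveILetI false

namespace CfsgLib.KondoFusion

open Subgroup Equiv Equiv.Perm

universe u

variable {n : ℕ} {G : Type u} [Group G] [Finite G]

namespace Setting

variable {X : Setting n G}

/-- The number of flipped pairs. -/
noncomputable def flips (X : Setting n G) (a : G) : Finset (Fin n) :=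
  Finset.univ.filter fun k => X.bt a k = 1

theorem const_of_sq {x : G} (hx : x ∈ X.J) (hx2 : x * x = 1) {i : Fin n} (hi : X.bt x i = 1) :
    X.ee x (i, 0) = X.ee x (i, 1) := by
  have h := ee_mul hx hx i 0
  rw [hx2, hi, zero_add, ← X.emb_zero, ee_emb] at h
  exact CharTwo.add_eq_zero.1 h.symm

/-- One step of the descent, at least two pairs. -/
theorem descend (hn : 2 ≤ n) {x : G} (hx : x ∈ X.J) (hx2 : x * x = 1) {i : Fin n}
    (hi : X.bt x i = 1) : ∃ g : G, cn g x ∈ X.J ∧
      (X.flips (cn g x)).card < (X.flips x).card := by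
  classical
  obtain ⟨y, hyF, hys, hyk⟩ := step (X := X) hn i
  set s := X.emb (pv i) with hs
  let M : Subgroup G :=
    { carrier := {a | a ∈ X.J ∧ cn y a * a⁻¹ ∈ X.F i}
      one_mem' := ⟨X.J.one_mem, by simp [cn]⟩
      mul_mem' := fun {a b} ha hb => ⟨X.J.mul_mem ha.1 hb.1, by
        rw [show cn y (a * b) * (a * b)⁻¹ = (cn y a * a⁻¹) * cn a (cn y b * b⁻¹) by
          simp only [cn]; group]
        exact (X.F i).mul_mem ha.2 (F_normal ha.1 hb.2)⟩
      inv_mem' := fun {a} ha => ⟨X.J.inv_mem ha.1, by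
        rw [show cn y a⁻¹ * a⁻¹⁻¹ = cn a⁻¹ (cn y a * a⁻¹)⁻¹ by simp only [cn]; group]
        exact F_normal (X.J.inv_mem ha.1) ((X.F i).inv_mem ha.2)⟩ }
  have hFM : ∀ a ∈ X.F i, a ∈ M := fun a ha =>
    ⟨X.F_le_J i ha, (X.F i).mul_mem (cn_mem hyF ha) ((X.F i).inv_mem ha)⟩
  have hM : ∀ (m : ℕ) (a : G), a ∈ X.J → X.ee a (i, 0) = X.ee a (i, 1) →
      ((X.flips a).erase i).card = m → a ∈ M := by
    intro m
    induction m with
    | zero =>
      intro a ha he hm
      refine hFM a (mem_F.2 ⟨ha, he, fun k hk => ?_⟩)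
      refine (fin2_cases _).resolve_right fun e => ?_
      have : k ∈ (X.flips a).erase i := Finset.mem_erase.2 ⟨hk, by simp [flips, e]⟩
      rw [Finset.card_eq_zero.1 hm] at this
      exact Finset.notMem_empty k this
    | succ m ih =>
      intro a ha he hm
      obtain ⟨k, hk⟩ := Finset.card_pos.1 (show 0 < ((X.flips a).erase i).card by omega)
      obtain ⟨hki, hka⟩ := Finset.mem_erase.1 hk
      simp only [flips, Finset.mem_filter, Finset.mem_univ, true_and] at hka
      have hfM : X.flip k ∈ M := ⟨X.flip_mem k, hyk k hki⟩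
      have hb : X.flip k * a ∈ M := by
        refine ih _ (X.J.mul_mem (X.flip_mem k) ha) ?_ ?_
        · rw [ee_mul (X.flip_mem k) ha, ee_mul (X.flip_mem k) ha, bt_flip_ne hki.symm, ee_flip]
          simpa using he
        · have : (X.flips (X.flip k * a)).erase i = ((X.flips a).erase i).erase k := by
            ext j
            simp only [flips, Finset.mem_erase, Finset.mem_filter, Finset.mem_univ, true_and,
              bt_mul (X.flip_mem k) ha]
            rcases eq_or_ne j k with rfl | hj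
            · simp [bt_flip_self, hka]
            · simp [bt_flip_ne hj, hj]
          rw [this, Finset.card_erase_of_mem hk, hm]
          omega
      have := M.mul_mem hfM hb
      rwa [← mul_assoc, flip_sq, one_mul] at this
  have hxc := const_of_sq hx hx2 hi
  set r := X.flip i * x with hr
  have hrJ : r ∈ X.J := X.J.mul_mem (X.flip_mem i) hx
  have hri : X.bt r i = 0 := by rw [hr, bt_mul (X.flip_mem i) hx, bt_flip_self, hi]; rfl
  have hrk : ∀ k, k ≠ i → X.bt r k = X.bt x k := fun k hk => by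
    rw [hr, bt_mul (X.flip_mem i) hx, bt_flip_ne hk, zero_add]
  have hrM : r ∈ M := by
    refine hM _ r hrJ ?_ rfl
    rw [hr, ee_mul (X.flip_mem i) hx, ee_mul (X.flip_mem i) hx, bt_flip_self, ee_flip]
    simp only [Pi.zero_apply, zero_add, show (1 : Fin 2) + 1 = 0 from rfl]
    exact hxc.symm
  obtain ⟨-, hf⟩ := hrM
  set f := cn y r * r⁻¹
  have hsU : s ∈ X.U i := pv_mem_U i i
  -- `x` is conjugate to `v * r` for both choices of `v`
  have hvr : ∀ v, v = X.flip i ∨ v = X.flip i * s → ∃ g : G, cn g x = v * r := by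
    rintro v (rfl | rfl)
    · exact ⟨1, by rw [hr, ← mul_assoc, flip_sq]; simp [cn]⟩
    · refine ⟨X.emb (dv i), ?_⟩
      rw [conj_dv i hx, if_neg (by rw [hi]; exact one_ne_zero), ← hs, mul_assoc,
        ← emb_comm (fun k => by simp [pv]) hrJ, hr, ← mul_assoc, ← mul_assoc, flip_sq, one_mul]
  obtain ⟨v, hv, hvF, hvb⟩ : ∃ v, (v = X.flip i ∨ v = X.flip i * s) ∧ cn y v * f ∈ X.F i ∧
      X.bt (cn y v * f) i = 0 := by
    have h1 : cn y (X.flip i) * f ∈ X.F i := (X.F i).mul_mem (cn_mem hyF (X.flip_mem_F i)) hf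
    have hsF : cn y s ∈ X.F i := cn_mem hyF hsU.2
    rcases fin2_cases (X.bt (cn y (X.flip i) * f) i) with e | e
    · exact ⟨_, Or.inl rfl, h1, e⟩
    · have hsb : X.bt (cn y s) i = 1 :=
        (fin2_cases _).resolve_left fun e' => hys (mem_U.2 ⟨hsF, e'⟩)
      have e2 : cn y (X.flip i * s) * f = cn y s * (cn y (X.flip i) * f) := by
        rw [cn_mul,
          comm_of_sq (fun _ h => X.F_sq h) (cn_mem hyF (X.flip_mem_F i)) hsF, mul_assoc]
      refine ⟨_, Or.inr rfl, e2 ▸ (X.F i).mul_mem hsF h1, ?_⟩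
      rw [e2, bt_mul (X.F_le_J i hsF) (X.F_le_J i h1), hsb, e]
      rfl
  obtain ⟨g, hg⟩ := hvr v hv
  refine ⟨y * g, ?_⟩
  have e : cn (y * g) x = cn y v * f * r := by
    rw [cn_mul_left, hg, cn_mul, mul_assoc, inv_mul_cancel_right]
  rw [e]
  refine ⟨X.J.mul_mem (X.F_le_J i hvF) hrJ, ?_⟩
  have hsub : X.flips (cn y v * f * r) ⊆ (X.flips x).erase i := by
    intro k hk
    simp only [flips, Finset.mem_filter, Finset.mem_univ, true_and,
      bt_mul (X.F_le_J i hvF) hrJ] at hk
    rcases eq_or_ne k i with rfl | hki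
    · rw [hvb, hri] at hk
      exact absurd hk (by decide)
    · rw [(mem_F.1 hvF).2.2 k hki, zero_add, hrk k hki] at hk
      exact Finset.mem_erase.2 ⟨hki, by simp [flips, hk]⟩
  exact (Finset.card_le_card hsub).trans_lt
    (Finset.card_erase_lt_of_mem (by simp [flips, hi]))

/-- The case of one pair. -/
theorem single (hn : n < 2) {x : G} (hx : x ∈ X.J) (hx2 : x * x = 1) {i : Fin n}
    (hi : X.bt x i = 1) : ∃ g : G, cn g x ∈ X.E := by
  haveI : Subsingleton (Fin n) := Fin.subsingleton_iff_le_one.2 (by omega)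
  obtain ⟨g, -, hg⟩ := X.flip_fused i
  have hxc := const_of_sq hx hx2 hi
  rcases zmod2_cases (X.ee x (i, 0)) with e | e
  · have : x = X.flip i := by
      refine J_ext hx (X.flip_mem i) (fun k l => ?_) fun k => ?_ <;>
        obtain rfl : k = i := Subsingleton.elim _ _
      · rw [ee_flip, Pi.zero_apply]
        rcases fin2_cases l with rfl | rfl
        · exact e
        · rw [← hxc]; exact e
      · rw [bt_flip_self, hi]
    exact ⟨g, this ▸ hg⟩
  · have : x = cn (X.emb (dv i)) (X.flip i) := by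
      rw [conj_dv i (X.flip_mem i), if_neg (by rw [bt_flip_self]; exact one_ne_zero)]
      refine J_ext hx (X.J.mul_mem (X.flip_mem i) (emb_mem_J _)) (fun k l => ?_) fun k => ?_ <;>
        obtain rfl : k = i := Subsingleton.elim _ _
      · rw [ee_mul (X.flip_mem k) (emb_mem_J _), ee_flip, ee_emb, pv_self, Pi.zero_apply, zero_add]
        rcases fin2_cases l with rfl | rfl
        · exact e
        · rw [← hxc]; exact e
      · rw [bt_mul (X.flip_mem k) (emb_mem_J _), bt_flip_self, bt_emb, hi, add_zero]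
    refine ⟨g * (X.emb (dv i))⁻¹, ?_⟩
    rw [this, ← cn_mul_left, inv_mul_cancel_right]
    exact hg

/-- Every involution is conjugate into the base group. -/
theorem conj_into_E {x : G} (hx2 : x * x = 1) : ∃ g : G, cn g x ∈ X.E := by
  have main : ∀ (m : ℕ) (x : G), x ∈ X.J → x * x = 1 → (X.flips x).card = m →
      ∃ g : G, cn g x ∈ X.E := by
    intro m
    induction m using Nat.strong_induction_on with
    | h m ih =>
    intro x hx hx2 hm
    rcases Finset.eq_empty_or_nonempty (X.flips x) with he | ⟨i, hi⟩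
    · refine ⟨1, ?_⟩
      have : x ∈ X.E := mem_E.2 ⟨hx, fun k => (fin2_cases _).resolve_right fun e => by
        have : k ∈ X.flips x := by simp [flips, e]
        rw [he] at this
        exact Finset.notMem_empty k this⟩
      simpa [cn] using this
    · simp only [flips, Finset.mem_filter, Finset.mem_univ, true_and] at hi
      rcases Nat.lt_or_ge n 2 with h | h
      · exact single h hx hx2 hi
      · obtain ⟨g, hgJ, hlt⟩ := descend h hx hx2 hi
        obtain ⟨g', hg'⟩ := ih _ (hm ▸ hlt) (cn g x) hgJ (by rw [← cn_mul, hx2]; simp [cn]) rfl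
        exact ⟨g' * g, by rwa [cn_mul_left]⟩
  obtain ⟨g, hg⟩ := X.conj_into_J hx2
  obtain ⟨g', hg'⟩ := main _ (cn g x) hg (by rw [← cn_mul, hx2]; simp [cn]) rfl
  exact ⟨g' * g, by rwa [cn_mul_left]⟩

/-- Fusion in the base group is controlled by its normaliser. -/
theorem fuse_E {a b : G} (ha : a ∈ X.E) (hb : b ∈ X.E) {g : G} (h : cn g a = b) :
    ∃ y ∈ X.NE, cn y a = b := by
  have h1 : X.E ≤ centralizer ({b} : Set G) := fun e he =>
    mem_centralizer_singleton_iff.2 (comm_of_sq (fun _ h => X.E_sq h) he hb)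
  have h2 : cj g X.E ≤ centralizer ({b} : Set G) := by
    rintro _ ⟨e, he, rfl⟩
    refine mem_centralizer_singleton_iff.2 ?_
    rw [← h]
    show cn g e * cn g a = cn g a * cn g e
    rw [← cn_mul, ← cn_mul, comm_of_sq (fun _ h => X.E_sq h) he ha]
  obtain ⟨c, hc, P, hP, hEP, hcP⟩ := exists_common (X.lift_isPGroup _) h1
    (isPGroup_cj g (X.lift_isPGroup _)) h2
  refine ⟨c * g, X.weakly_closed hP hEP (by rw [← cj_cj]; exact hcP), ?_⟩
  rw [cn_mul_left, h, cn, mem_centralizer_singleton_iff.1 hc, mul_inv_cancel_right]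

theorem sq_of_order {x : G} (h : orderOf x = 2) : x * x = 1 := by
  rw [← sq, ← h, pow_orderOf_eq_one]

/-- The number of classes of involutions. -/
theorem count (X : Setting n G) (hn : 1 ≤ n) :
    Nat.card {c : ConjClasses G // ∃ x ∈ c.carrier, orderOf x = 2} = n := by
  classical
  obtain ⟨x₀, hx₀, hne⟩ := X.act_moves hn
  obtain ⟨k, hkinv, hkrange, hksurj, hksep⟩ := X.act_hyp.orbits hx₀ hne (n := n)
    (by rw [Fintype.card_prod, Fintype.card_fin, Fintype.card_fin, mul_comm])
  set T := {c : ConjClasses G // ∃ x ∈ c.carrier, orderOf x = 2}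
  let f : {v : Pt n → ZMod 2 // v ≠ 0} → T := fun v => ⟨ConjClasses.mk (X.emb v.1), X.emb v.1,
    ConjClasses.mem_carrier_mk, orderOf_eq_prime (by rw [sq]; exact X.E_sq (X.emb_mem _))
      fun e => v.2 (X.emb_inj (e.trans X.emb_zero.symm))⟩
  have hf : ∀ v w, f v = f w ↔ k v.1 = k w.1 := by
    intro v w
    rw [Subtype.ext_iff]
    show ConjClasses.mk _ = ConjClasses.mk _ ↔ _
    rw [ConjClasses.mk_eq_mk_iff_isConj, isConj_iff]
    constructor
    · rintro ⟨g, hg⟩
      obtain ⟨y, hy, hyv⟩ := fuse_E (X.emb_mem _) (X.emb_mem _) (g := g) hg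
      have : X.actFun y v.1 = w.1 := X.emb_inj (by rw [X.emb_actFun hy]; exact hyv)
      rw [← this]
      exact (hkinv _ ⟨⟨y, hy⟩, rfl⟩ v.1).symm
    · intro e
      obtain ⟨_, ⟨y, rfl⟩, hyv⟩ := hksep _ _ e
      exact ⟨y, by rw [← X.emb_actFun y.2, ← act_apply, hyv]⟩
  have hsurj : Function.Surjective f := by
    rintro ⟨c, x, hxc, hx⟩
    obtain ⟨g, hg⟩ := conj_into_E (X := X) (sq_of_order hx)
    refine ⟨⟨(X.ψ (cn g x)).e, fun e => ?_⟩, Subtype.ext ?_⟩
    · have h1 : cn g x = 1 := by rw [X.eq_emb hg, e, X.emb_zero]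
      simp only [cn, conj_eq_one_iff] at h1
      rw [h1, orderOf_one] at hx
      exact absurd hx (by norm_num)
    · show ConjClasses.mk (X.emb _) = c
      rw [← X.eq_emb hg, ← ConjClasses.mem_carrier_iff_mk_eq.1 hxc,
        ConjClasses.mk_eq_mk_iff_isConj]
      exact (isConj_iff.2 ⟨g, rfl⟩).symm
  let S₀ : Type := ↥(Finset.Icc 1 n)
  let φ : T → S₀ := fun c => ⟨k (Function.surjInv hsurj c).1,
    Finset.mem_Icc.2 (hkrange _ (Function.surjInv hsurj c).2)⟩
  have hφ : Function.Bijective φ := by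
    constructor
    · intro a b e
      rw [← Function.surjInv_eq hsurj a, ← Function.surjInv_eq hsurj b]
      exact (hf _ _).2 (congrArg Subtype.val e)
    · rintro ⟨c, hc⟩
      obtain ⟨v, hv, hkv⟩ := hksurj c (Finset.mem_Icc.1 hc).1 (Finset.mem_Icc.1 hc).2
      refine ⟨f ⟨v, hv⟩, Subtype.ext ?_⟩
      show k (Function.surjInv hsurj (f ⟨v, hv⟩)).1 = c
      rw [← hkv]
      exact (hf _ _).1 (Function.surjInv_eq hsurj _)
  rw [Nat.card_eq_of_bijective φ hφ, show Nat.card S₀ = (Finset.Icc 1 n).card from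
    Nat.card_eq_finsetCard _, Nat.card_Icc]
  omega

end Setting

end CfsgLib.KondoFusion
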