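import Cfsg.Agent.KondoFusion.Basic
import Cfsg.Agent.KondoFusion.Frame

/-!
The automizer of the base group and the two transfer steps.
-/

set_option autoImplicit false
set_option linter.unusedSectionVars false
set_option linter.style.haveILetI false

namespace CfsgLib.KondoFusion

open Subgroup Equiv Equiv.Perm

universe u

variable {n : ℕ} {G : Type u} [Group G] [Finite G]

theorem comm_of_sq {A : Subgroup G} (h : ∀ a ∈ A, a * a = 1) {a b : G} (ha : a ∈ A) (hb : b ∈ A) :
    a * b = b * a := by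
  have := inv_eq_of_mul_eq_one_left (h _ (A.mul_mem ha hb))
  rw [mul_inv_rev, inv_eq_of_mul_eq_one_left (h a ha), inv_eq_of_mul_eq_one_left (h b hb)] at this
  exact this.symm

theorem cj_normal_iff {g : G} {A : Subgroup G} (h : cj g A = A) {a : G} :
    g * a * g⁻¹ ∈ A ↔ a ∈ A := by
  constructor
  · intro ha
    rw [← h, mem_cj] at ha
    simpa [mul_assoc] using ha
  · intro ha
    have := conj_mem_cj (g := g) ha
    rwa [h] at this

theorem cj_inv_of_cj {g : G} {A : Subgroup G} (h : cj g A = A) : cj g⁻¹ A = A := by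
  conv_lhs => rw [← h]
  rw [cj_cj, inv_mul_cancel, cj_one]

theorem cj_eq_of_le {g : G} {A : Subgroup G} (h : ∀ a ∈ A, g * a * g⁻¹ ∈ A) : cj g A = A :=
  Subgroup.eq_of_le_of_card_ge (by rintro _ ⟨a, ha, rfl⟩; exact h a ha) (by rw [card_cj])

namespace Setting

variable (X : Setting n G)

/-- The base element with component `v`. -/
noncomputable def emb (v : Pt n → ZMod 2) : G :=
  (X.exists_lift (four_le_pairs ∅) ((four_empty (bse v)).2 rfl)).choose

theorem emb_mem (v : Pt n → ZMod 2) : X.emb v ∈ X.E :=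
  (X.exists_lift (four_le_pairs ∅) ((four_empty (bse v)).2 rfl)).choose_spec.1

theorem ψ_emb (v : Pt n → ZMod 2) : X.ψ (X.emb v) = bse v :=
  (X.exists_lift (four_le_pairs ∅) ((four_empty (bse v)).2 rfl)).choose_spec.2

theorem eq_emb {a : G} (ha : a ∈ X.E) : a = X.emb (X.ψ a).e :=
  X.inj ha.1 (X.emb_mem _).1 (by rw [X.ψ_emb]; exact eq_bse ((four_empty _).1 ha.2))

theorem emb_add (v w : Pt n → ZMod 2) : X.emb (v + w) = X.emb v * X.emb w := by
  refine X.inj (X.emb_mem _).1 (X.E.mul_mem (X.emb_mem v) (X.emb_mem w)).1 ?_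
  rw [X.mul' (X.S_le (X.emb_mem v).1) (X.S_le (X.emb_mem w).1), X.ψ_emb, X.ψ_emb, X.ψ_emb, bse_mul]

theorem emb_inj {v w : Pt n → ZMod 2} (h : X.emb v = X.emb w) : v = w := by
  have := congrArg X.ψ h
  rw [X.ψ_emb, X.ψ_emb] at this
  exact congrArg Wr.e this

theorem emb_one : X.emb 1 = X.t :=
  X.inj (X.emb_mem _).1 X.t_mem (by rw [X.ψ_emb, X.ψ_t]; rfl)

theorem emb_zero : X.emb 0 = 1 :=
  X.inj (X.emb_mem _).1 (X.S : Subgroup G).one_mem (by rw [X.ψ_emb, X.map_one, bse_zero])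

/-- The normaliser of the base group. -/
def NE : Subgroup G where
  carrier := {y | cj y X.E = X.E}
  one_mem' := cj_one _
  mul_mem' := fun {a b} (ha : cj a X.E = X.E) (hb : cj b X.E = X.E) => by
    show cj (a * b) X.E = X.E
    rw [← cj_cj, hb, ha]
  inv_mem' := fun {a} ha => cj_inv_of_cj ha

theorem mem_NE {y : G} : y ∈ X.NE ↔ cj y X.E = X.E := Iff.rfl

/-- The image of a base vector under conjugation. -/
noncomputable def actFun (y : G) (v : Pt n → ZMod 2) : Pt n → ZMod 2 :=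
  (X.ψ (y * X.emb v * y⁻¹)).e

theorem emb_actFun {y : G} (hy : y ∈ X.NE) (v : Pt n → ZMod 2) :
    X.emb (X.actFun y v) = y * X.emb v * y⁻¹ :=
  (X.eq_emb ((cj_normal_iff hy).2 (X.emb_mem v))).symm

theorem actFun_mul {a b : G} (ha : a ∈ X.NE) (hb : b ∈ X.NE) (v : Pt n → ZMod 2) :
    X.actFun (a * b) v = X.actFun a (X.actFun b v) := by
  apply X.emb_inj
  rw [X.emb_actFun (X.NE.mul_mem ha hb), X.emb_actFun ha, X.emb_actFun hb]
  group

theorem actFun_one (v : Pt n → ZMod 2) : X.actFun 1 v = v := by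
  apply X.emb_inj
  rw [X.emb_actFun X.NE.one_mem]
  group

/-- The action of the normaliser of the base group. -/
noncomputable def act : X.NE →* Perm (Pt n → ZMod 2) where
  toFun y :=
    { toFun := X.actFun (y : G)
      invFun := X.actFun ((y : G)⁻¹)
      left_inv := fun v => by
        rw [← X.actFun_mul (X.NE.inv_mem y.2) y.2, inv_mul_cancel, X.actFun_one]
      right_inv := fun v => by
        rw [← X.actFun_mul y.2 (X.NE.inv_mem y.2), mul_inv_cancel, X.actFun_one] }
  map_one' := Equiv.ext fun v => X.actFun_one v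
  map_mul' a b := Equiv.ext fun v => X.actFun_mul a.2 b.2 v

theorem act_apply (y : X.NE) (v : Pt n → ZMod 2) : X.act y v = X.actFun (y : G) v := rfl

theorem actFun_of_C {y : G} (hy : y ∈ X.C) (v : Pt n → ZMod 2) :
    X.actFun y v = Frame.permV (X.ψ y).p v := by
  rw [actFun, X.map_conj hy (X.S_le (X.emb_mem v).1), X.ψ_emb, conj_bse]
  rfl

theorem mem_C_of_fix {y : G} (hy : y ∈ X.NE) (h : X.actFun y 1 = 1) : y ∈ X.C := by
  rw [X.mem_C]
  have := X.emb_actFun hy 1
  rw [h, X.emb_one] at this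
  exact (mul_inv_eq_iff_eq_mul.1 this.symm)

theorem act_hyp : Frame.Hyp X.act.range where
  add := by
    rintro _ ⟨y, rfl⟩ v w
    apply X.emb_inj
    simp only [act_apply, X.emb_add, X.emb_actFun y.2]
    group
  perm := fun π => by
    obtain ⟨y, hy, hyw, hyE⟩ := X.exists_norm ⟨0, π⟩
    exact ⟨⟨y, hyE⟩, Equiv.ext fun v => by rw [act_apply, X.actFun_of_C hy, hyw]⟩
  stab := by
    rintro _ ⟨y, rfl⟩ h
    exact ⟨(X.ψ (y : G)).p, Equiv.ext fun v => X.actFun_of_C (X.mem_C_of_fix y.2 h) v⟩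
  even := ⟨n, by simp; ring⟩

/-- The kernel of a sign-like character on `S`. -/
def charKer {M : Type} [Group M] (f : Wr n →* M) : Subgroup G := X.lift f.ker

theorem relIndex_charKer {M : Type} [Group M] (f : Wr n →* M) (hM : Nat.card M = 2)
    {w : Wr n} (hw : w ∈ pairs n) (hfw : f w ≠ 1) :
    (X.charKer f).relIndex (X.S : Subgroup G) = 2 := by
  let φ : (X.S : Subgroup G) →* M := f.comp
    (MonoidHom.mk' (fun a : (X.S : Subgroup G) => X.ψ a) fun a b => X.mul' (X.S_le a.2) (X.S_le b.2))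
  have hk : (X.charKer f).subgroupOf (X.S : Subgroup G) = φ.ker := by
    ext a
    exact ⟨fun h => h.2, fun h => ⟨a.2, h⟩⟩
  show ((X.charKer f).subgroupOf (X.S : Subgroup G)).index = 2
  rw [hk, Subgroup.index_ker]
  haveI : Finite M := Nat.finite_of_card_ne_zero (by omega)
  have h1 := φ.range.card_subgroup_dvd_card
  rw [hM] at h1
  refine ((Nat.dvd_prime Nat.prime_two).1 h1).resolve_left fun h => hfw ?_
  obtain ⟨a, ha, haw⟩ := X.lift_pairs w hw
  have hmem : f w ∈ φ.range := ⟨⟨a, ha⟩, by show f (X.ψ a) = f w; rw [haw]⟩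
  rwa [Subgroup.card_eq_one.1 h, Subgroup.mem_bot] at hmem

theorem odd_index : Odd (X.S : Subgroup G).index := by
  haveI : Fact (Nat.Prime 2) := ⟨Nat.prime_two⟩
  exact Nat.not_even_iff_odd.1 fun h => X.S.not_dvd_index h.two_dvd

/-- The automizer of the base group moves `t`. -/
theorem act_moves (hn : 1 ≤ n) : ∃ x ∈ X.act.range, x 1 ≠ 1 := by
  by_contra hno
  push Not at hno
  set p₀ : Pt n := (⟨0, hn⟩, 0)
  set v : Pt n → ZMod 2 := Frame.ind {p₀}
  have hv : par n (bse v) ≠ 1 := by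
    show Multiplicative.ofAdd (∑ x, Frame.ind {p₀} x) ≠ 1
    simp [Frame.ind]
  obtain ⟨g, hg, hgE⟩ := transfer_into X.noIndexTwo (X.S : Subgroup G) (X.charKer (par n)) X.odd_index
    (fun a ha => ha.1)
    (X.relIndex_charKer (par n) (by simp) (bse_mem_pairs v) hv)
    (X.E_sq (X.emb_mem v)) X.E (X.lift_isPGroup _) fun q hq => by
      rw [X.eq_emb hq, ← X.emb_add, ← X.emb_add, add_comm]
  have hgN : g ∈ X.NE := X.E_unique (by rintro _ ⟨a, ha, rfl⟩; exact hgE a ha)
  obtain ⟨π, hπ⟩ := X.act_hyp.stab _ ⟨⟨g, hgN⟩, rfl⟩ (hno _ ⟨_, rfl⟩)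
  have h1 : X.ψ (g * X.emb v * g⁻¹) = bse (Frame.permV π v) := by
    rw [← X.emb_actFun hgN, X.ψ_emb, ← hπ]
    rfl
  have h2 : par n (X.ψ (g * X.emb v * g⁻¹)) = 1 := hg.2
  apply hv
  rw [h1] at h2
  rw [← h2]
  show Multiplicative.ofAdd (∑ x, v x) = Multiplicative.ofAdd (∑ x, v (π.symm x))
  rw [Equiv.sum_comp π.symm v]

/-- The element flipping the pair `i`. -/
noncomputable def flip (i : Fin n) : G :=
  (X.exists_lift le_rfl (mkPair_mem (0 : Pt n → ZMod 2) (Function.update 0 i 1))).choose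

theorem flip_mem (i : Fin n) : X.flip i ∈ X.J :=
  (X.exists_lift le_rfl (mkPair_mem (0 : Pt n → ZMod 2) (Function.update 0 i 1))).choose_spec.1

theorem ψ_flip (i : Fin n) : X.ψ (X.flip i) = mkPair 0 (Function.update 0 i 1) :=
  (X.exists_lift le_rfl (mkPair_mem (0 : Pt n → ZMod 2) (Function.update 0 i 1))).choose_spec.2

theorem flip_mem_F (i : Fin n) : X.flip i ∈ X.F i := by
  refine ⟨(X.flip_mem i).1, ?_⟩
  rw [X.ψ_flip]
  refine ⟨mkPair_mem _ _, fun _ _ => rfl, fun k hk => ?_⟩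
  rw [bit_mkPair, Function.update_of_ne (by simpa using hk)]
  rfl

theorem mkPair_p_eq (i : Fin n) (v : Pt n → ZMod 2) :
    (mkPair v (Function.update 0 i 1)).p = swap (i, 0) (i, 1) := by
  refine Equiv.ext fun ⟨k, l⟩ => ?_
  show (k, l + Function.update (0 : Fin n → Fin 2) i 1 k) = _
  rcases eq_or_ne k i with rfl | hk
  · rw [Function.update_self]
    rcases fin2_cases l with rfl | rfl <;> simp
  · rw [Function.update_of_ne hk, Pi.zero_apply, add_zero, swap_apply_of_ne_of_ne]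
    · simp [hk]
    · simp [hk]

/-- An element normalising `F i` carries the flip into the base group. -/
theorem flip_fused (i : Fin n) : ∃ g : G, cj g (X.F i) = X.F i ∧ g * X.flip i * g⁻¹ ∈ X.E := by
  let f : Wr n →* ℤˣ := (Equiv.Perm.sign (α := Pt n)).comp (toPerm n)
  have hf : f (mkPair 0 (Function.update 0 i 1)) ≠ 1 := by
    show Equiv.Perm.sign (mkPair (0 : Pt n → ZMod 2) (Function.update 0 i 1)).p ≠ 1
    rw [mkPair_p_eq, sign_swap (by simp)]
    decide
  obtain ⟨g, hg, hgF⟩ := transfer_into X.noIndexTwo (X.S : Subgroup G) (X.charKer f) X.odd_index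
    (fun a ha => ha.1) (X.relIndex_charKer f (by simp) (mkPair_mem _ _) hf)
    (X.F_sq (X.flip_mem_F i)) (X.F i) (X.lift_isPGroup _) fun q hq =>
      comm_of_sq (fun _ ha => X.F_sq ha) hq (X.flip_mem_F i)
  have hle : cj g (X.F i) ≤ X.S := by rintro _ ⟨a, ha, rfl⟩; exact hgF a ha
  obtain ⟨y, hy, hyF⟩ := X.F_conj_perm hle
  have hv : g * X.flip i * g⁻¹ ∈ cj y (X.F i) := by rw [hyF]; exact conj_mem_cj (X.flip_mem_F i)
  rw [mem_cj] at hv
  set c := y⁻¹ * (g * X.flip i * g⁻¹) * y with hc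
  have hgc : g * X.flip i * g⁻¹ = y * c * y⁻¹ := by rw [hc]; group
  have hsign : Equiv.Perm.sign (X.ψ c).p = 1 := by
    have h2 : Equiv.Perm.sign (X.ψ (g * X.flip i * g⁻¹)).p = 1 := hg.2
    rw [hgc, X.map_conj hy (X.S_le hv.1), mul_p, mul_p, inv_p] at h2
    rw [_root_.map_mul, _root_.map_mul, _root_.map_inv, mul_right_comm, mul_inv_cancel, one_mul] at h2
    exact h2
  have hp : (X.ψ c).p = 1 := by
    have hcases : (X.ψ c).p = 1 ∨ (X.ψ c).p = swap (i, 0) (i, 1) := by
      rcases fin2_cases (bit (X.ψ c) i) with e | e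
      · refine Or.inl (perm_eq_one hv.2.1 fun k => ?_)
        by_cases hk : k = i
        · rw [hk, e]
        · exact hv.2.2.2 k (by simpa using hk)
      · refine Or.inr ?_
        have : X.ψ c = mkPair (X.ψ c).e (Function.update 0 i 1) := by
          refine pairs_ext hv.2.1 (mkPair_mem _ _) (fun _ _ => rfl) fun k => ?_
          rw [bit_mkPair]
          rcases eq_or_ne k i with rfl | hk
          · rw [Function.update_self, e]
          · rw [Function.update_of_ne hk, hv.2.2.2 k (by simpa using hk)]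
            rfl
        rw [this, mkPair_p_eq]
    rcases hcases with e | e
    · exact e
    · rw [e, sign_swap (by simp)] at hsign
      exact absurd hsign (by decide)
  refine ⟨y⁻¹ * g, ?_, ?_⟩
  · rw [← cj_cj, ← hyF, cj_cj, inv_mul_cancel, cj_one]
  · rw [show y⁻¹ * g * X.flip i * (y⁻¹ * g)⁻¹ = c by rw [hc]; group]
    exact ⟨hv.1, (four_empty _).2 hp⟩

end Setting

end CfsgLib.KondoFusion
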