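import Cfsg.Agent.KondoFusion.Fuse

/-!
The centraliser of `2n` transpositions in an alternating group of degree `4n + r`, `r = 2, 3`.
-/

set_option autoImplicit false
set_option linter.unusedSectionVars false
set_option linter.style.haveILetI false

namespace CfsgLib.KondoFusion

open Subgroup Equiv Equiv.Perm

universe u

variable {n r : ℕ}

/-- The points moved and fixed. -/
abbrev Deg (n r : ℕ) := (Pt n × ZMod 2) ⊕ Fin r

/-- The action on the moved points. -/
def blk (w : Wr n) : Perm (Pt n × ZMod 2) where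
  toFun x := (w.p x.1, x.2 + w.e (w.p x.1))
  invFun x := (w.p.symm x.1, x.2 + w.e x.1)
  left_inv x := by
    refine Prod.ext (w.p.symm_apply_apply x.1) ?_
    show x.2 + w.e (w.p x.1) + w.e (w.p x.1) = x.2
    rw [add_assoc, CharTwo.add_self_eq_zero, add_zero]
  right_inv x := by
    refine Prod.ext (w.p.apply_symm_apply x.1) ?_
    show x.2 + w.e x.1 + w.e (w.p (w.p.symm x.1)) = x.2
    rw [Equiv.apply_symm_apply, add_assoc, CharTwo.add_self_eq_zero, add_zero]

theorem blk_apply (w : Wr n) (x : Pt n) (l : ZMod 2) :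
    blk w (x, l) = (w.p x, l + w.e (w.p x)) := rfl

theorem blk_mul (a b : Wr n) : blk (a * b) = blk a * blk b := by
  refine Equiv.ext fun ⟨x, l⟩ => ?_
  rw [Perm.mul_apply, blk_apply, blk_apply, blk_apply, mul_p, mul_e, Perm.mul_apply, Pi.add_apply,
    Equiv.symm_apply_apply]
  refine Prod.ext rfl ?_
  show l + (a.e (a.p (b.p x)) + b.e (b.p x)) = l + b.e (b.p x) + a.e (a.p (b.p x))
  abel

/-- The centraliser of the model involution, as a product. -/
def Phi (n r : ℕ) : Wr n × Perm (Fin r) →* Perm (Deg n r) :=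
  MonoidHom.mk' (fun x => Equiv.sumCongr (blk x.1) x.2) fun a b => by
    show Equiv.sumCongr (blk (a.1 * b.1)) (a.2 * b.2) = _
    rw [blk_mul]
    exact (Equiv.Perm.sumCongr_mul (blk a.1) a.2 (blk b.1) b.2).symm

theorem Phi_inl (w : Wr n) (π : Perm (Fin r)) (x : Pt n) (l : ZMod 2) :
    Phi n r (w, π) (Sum.inl (x, l)) = Sum.inl (w.p x, l + w.e (w.p x)) := rfl

theorem Phi_inr (w : Wr n) (π : Perm (Fin r)) (j : Fin r) :
    Phi n r (w, π) (Sum.inr j) = Sum.inr (π j) := rfl

theorem Phi_injective : Function.Injective (Phi n r) := by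
  rintro ⟨w, π⟩ ⟨w', π'⟩ h
  have h1 : ∀ x, w.p x = w'.p x ∧ w.e (w.p x) = w'.e (w'.p x) := fun x => by
    have := Equiv.ext_iff.1 h (Sum.inl (x, 0))
    rw [Phi_inl, Phi_inl, Sum.inl.injEq, Prod.mk.injEq, zero_add, zero_add] at this
    exact this
  have hp : w.p = w'.p := Equiv.ext fun x => (h1 x).1
  refine Prod.ext (Wr.ext (funext fun y => ?_) hp) (Equiv.ext fun j => ?_)
  · have := (h1 (w.p.symm y)).2
    rwa [← hp, Equiv.apply_symm_apply] at this
  · have := Equiv.ext_iff.1 h (Sum.inr j)
    rw [Phi_inr, Phi_inr] at this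
    exact Sum.inr.inj this

/-- The model involution. -/
def sigma (n r : ℕ) : Perm (Deg n r) := Phi n r (tau n, 1)

theorem sigma_inl (x : Pt n) (l : ZMod 2) :
    sigma n r (Sum.inl (x, l)) = Sum.inl (x, l + 1) := rfl

theorem sigma_inr (j : Fin r) : sigma n r (Sum.inr j) = Sum.inr j := rfl

theorem exists_pre {h : Perm (Deg n r)} (hh : h * sigma n r = sigma n r * h) :
    ∃ x, Phi n r x = h := by
  have hc : ∀ z, h (sigma n r z) = sigma n r (h z) := fun z => Equiv.ext_iff.1 hh z
  have hl : ∀ x : Pt n, ∃ y : Pt n × ZMod 2, h (Sum.inl (x, 0)) = Sum.inl y := by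
    intro x
    rcases e : h (Sum.inl (x, 0)) with y | j
    · exact ⟨y, rfl⟩
    · exfalso
      have := hc (Sum.inl (x, 0))
      rw [sigma_inl, zero_add, e, sigma_inr, ← e] at this
      simpa using h.injective this
  choose q hq using hl
  have hfull : ∀ x l, h (Sum.inl (x, l)) = Sum.inl ((q x).1, l + (q x).2) := by
    intro x l
    rcases zmod2_cases l with rfl | rfl
    · rw [hq, zero_add]
    · have := hc (Sum.inl (x, 0))
      rw [sigma_inl, zero_add, hq] at this
      rw [this, add_comm]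
      rfl
  have hr : ∀ j, ∃ k, h (Sum.inr j) = Sum.inr k := by
    intro j
    rcases e : h (Sum.inr j) with y | k
    · exfalso
      have := hc (Sum.inr j)
      rw [sigma_inr, e] at this
      obtain ⟨y1, y2⟩ := y
      rw [sigma_inl] at this
      simp at this
    · exact ⟨k, rfl⟩
  choose s hs using hr
  have hsinj : Function.Injective s := fun a b e =>
    Sum.inr.inj (h.injective (by rw [hs, hs, e]))
  have hpinj : Function.Injective fun x => (q x).1 := by
    intro a b (e : (q a).1 = (q b).1)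
    have : h (Sum.inl (a, (q b).2)) = h (Sum.inl (b, (q a).2)) := by
      rw [hfull, hfull, e, add_comm]
    exact congrArg Prod.fst (Sum.inl.inj (h.injective this))
  let p : Perm (Pt n) := Equiv.ofBijective _ (Finite.injective_iff_bijective.1 hpinj)
  refine ⟨(⟨fun y => (q (p.symm y)).2, p⟩, Equiv.ofBijective s (Finite.injective_iff_bijective.1 hsinj)),
    Equiv.ext fun z => ?_⟩
  rcases z with ⟨x, l⟩ | j
  · rw [Phi_inl, hfull]
    show Sum.inl (p x, l + (q (p.symm (p x))).2) = _
    rw [Equiv.symm_apply_apply]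
    rfl
  · rw [Phi_inr, hs]
    rfl

/-- The parity as a sign. -/
def sgn : Multiplicative (ZMod 2) →* ℤˣ :=
  MonoidHom.mk' (fun a => if a = 1 then 1 else -1) (by decide)

theorem sign_addRight : ∀ a : ZMod 2, Equiv.Perm.sign (Equiv.addRight a) =
    sgn (Multiplicative.ofAdd a) := by decide

theorem sign_Phi (w : Wr n) (π : Perm (Fin r)) :
    Equiv.Perm.sign (Phi n r (w, π)) = sgn (par n w) * Equiv.Perm.sign π := by
  show Equiv.Perm.sign (Equiv.sumCongr (blk w) π) = _
  rw [Equiv.Perm.sign_sumCongr]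
  congr 1
  have e : blk w = Equiv.prodCongrRight (fun y => Equiv.addRight (w.e y)) *
      Equiv.prodCongrLeft (fun _ => w.p) := Equiv.ext fun ⟨x, l⟩ => rfl
  rw [e, Equiv.Perm.sign_mul, Equiv.Perm.sign_prodCongrLeft, Equiv.Perm.sign_prodCongrRight,
    Finset.prod_const, Finset.card_univ, ZMod.card, sq, Int.units_mul_self, mul_one]
  show _ = sgn (Multiplicative.ofAdd (∑ x, w.e x))
  rw [ofAdd_sum, map_prod]
  exact Finset.prod_congr rfl fun y _ => sign_addRight (w.e y)

theorem small_three (hr : r = 2 ∨ r = 3) :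
    ∀ π : Perm (Fin r), Equiv.Perm.sign π = 1 → π ^ 3 = 1 ∧ (π * π = 1 → π = 1) := by
  rcases hr with rfl | rfl <;> decide

theorem small_inv (hr : r = 2 ∨ r = 3) : ∀ π ρ : Perm (Fin r), Equiv.Perm.sign π = 1 →
    Equiv.Perm.sign ρ = -1 → ρ * π * ρ⁻¹ = π⁻¹ := by
  rcases hr with rfl | rfl <;> decide

theorem small_sign (hr : r = 2 ∨ r = 3) : ∀ e : ℤˣ, ∃ π : Perm (Fin r), Equiv.Perm.sign π = e := by
  rcases hr with rfl | rfl <;> decide

theorem wr_center {w : Wr n} (h : ∀ a : Wr n, a * w = w * a) : w = 1 ∨ w = tau n := by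
  have hp : w.p = 1 := by
    refine Equiv.ext fun x => ?_
    have := h (bse fun z => if z = x then 1 else 0)
    have h' : w * bse (fun z => if z = x then 1 else 0) * w⁻¹ = bse fun z => if z = x then 1 else 0 := by
      rw [← this, mul_inv_cancel_right]
    rw [conj_bse] at h'
    have := congrFun (congrArg Wr.e h') (w.p x)
    simp only [bse, Equiv.symm_apply_apply, if_pos] at this
    by_contra hne
    rw [if_neg (by simpa using hne)] at this
    exact one_ne_zero this
  have he : ∀ x y, w.e x = w.e y := by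
    intro x y
    have h' : (⟨0, swap x y⟩ : Wr n) * bse w.e * (⟨0, swap x y⟩ : Wr n)⁻¹ = bse w.e := by
      rw [← eq_bse hp, h, mul_inv_cancel_right]
    rw [conj_bse] at h'
    have := congrFun (congrArg Wr.e h') x
    simp only [bse, symm_swap, swap_apply_left] at this
    exact this.symm
  rcases isEmpty_or_nonempty (Pt n) with he' | ⟨⟨x₀⟩⟩
  · exact Or.inl (Wr.ext (funext fun x => he'.elim x) hp)
  rcases zmod2_cases (w.e x₀) with e | e
  · exact Or.inl (Wr.ext (funext fun x => (he x x₀).trans e) hp)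
  · exact Or.inr (Wr.ext (funext fun x => (he x x₀).trans e) hp)

theorem pairs_isPGroup : IsPGroup 2 (pairs n) := fun a => ⟨2, Subtype.ext (by
  have h : (a : Wr n) * a * ((a : Wr n) * a) = 1 := by
    rw [sq_eq a.2]
    exact four_sq ((four_empty _).2 rfl)
  show (a : Wr n) ^ 2 ^ 2 = 1
  rw [← h]
  simp [pow_succ, mul_assoc])⟩

variable {G : Type u} [Group G] [Finite G]

/-- The hypotheses of the counting theorem from the centraliser of `t`. -/
theorem nonempty_setting (hn : 1 ≤ n) (hr : r = 2 ∨ r = 3)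
    (α : alternatingGroup (Fin (4 * n + r))) (hα : orderOf α = 2)
    (hα4 : (α : Perm (Fin (4 * n + r))).support.card = 4 * n)
    (h2 : ∀ H : Subgroup G, H.Normal → H.index ≠ 2) (t : G) (ht : orderOf t = 2) (S : Sylow 2 G)
    (htS : t ∈ (S : Subgroup G)) (htZ : ∀ s ∈ (S : Subgroup G), s * t = t * s)
    (φ : ↥(centralizer ({t} : Set G)) ≃*
      ↥(centralizer ({α} : Set (alternatingGroup (Fin (4 * n + r)))))) :
    Nonempty (Setting n G) := by
  classical
  haveI : Fact (Nat.Prime 2) := ⟨Nat.prime_two⟩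
  -- labelling
  let e₀ : Fin (4 * n + r) ≃ Deg n r := (Fintype.equivFinOfCardEq (by simp; ring)).symm
  set σ' := e₀.symm.permCongr (sigma n r) with hσ'
  have hασ : (α : Perm (Fin (4 * n + r))).cycleType = σ'.cycleType := by
    have h1 : (α : Perm (Fin (4 * n + r))) ^ 2 = 1 := by
      have h := congrArg Subtype.val (pow_orderOf_eq_one α)
      rwa [hα] at h
    have h3 : σ' ^ 2 = 1 := by
      rw [sq, hσ', ← Equiv.permCongr_mul, sigma, ← map_mul]
      rw [show ((tau n, 1) : Wr n × Perm (Fin r)) * (tau n, 1) = 1 from Prod.ext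
        (four_sq ((four_empty _).2 rfl)) (one_mul _), map_one]
      exact Equiv.ext fun x => by simp
    have h4 : σ'.support.card = 4 * n := by
      have : σ'.support = (Finset.univ.map ⟨Sum.inl, Sum.inl_injective⟩).map e₀.symm.toEmbedding := by
        ext x
        simp only [Equiv.Perm.mem_support, Finset.mem_map, Finset.mem_univ, true_and,
          Function.Embedding.coeFn_mk, hσ', Equiv.permCongr_apply, Equiv.coe_toEmbedding]
        rw [ne_eq, Equiv.symm_apply_eq, Equiv.symm_symm]
        rcases e : e₀ x with ⟨y, l⟩ | j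
        · rw [sigma_inl]
          refine iff_of_true (by simp) ⟨Sum.inl (y, l), ⟨(y, l), rfl⟩, ?_⟩
          rw [← e, Equiv.symm_apply_apply]
        · rw [sigma_inr]
          refine iff_of_false (by simp) ?_
          rintro ⟨z, ⟨y, rfl⟩, hz⟩
          rw [← hz, Equiv.apply_symm_apply] at e
          simp at e
      rw [this, Finset.card_map, Finset.card_map, Finset.card_univ]
      simp; ring
    rw [Equiv.Perm.cycleType_of_pow_prime_eq_one h1, Equiv.Perm.cycleType_of_pow_prime_eq_one h3]
    congr 1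
    have e1 := (α : Perm (Fin (4 * n + r))).sum_cycleType
    have e2 := σ'.sum_cycleType
    rw [Equiv.Perm.cycleType_of_pow_prime_eq_one h1, Multiset.sum_replicate, smul_eq_mul, hα4] at e1
    rw [Equiv.Perm.cycleType_of_pow_prime_eq_one h3, Multiset.sum_replicate, smul_eq_mul, h4] at e2
    omega
  obtain ⟨ρ, hρ⟩ := isConj_iff.1 (isConj_iff_cycleType_eq.2 hασ)
  let L : Fin (4 * n + r) ≃ Deg n r := ρ.trans e₀
  let pc : Perm (Fin (4 * n + r)) →* Perm (Deg n r) := (L.permCongrHom : _ ≃* _).toMonoidHom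
  have hpc : Function.Injective pc := L.permCongrHom.injective
  have hpcα : pc α = sigma n r := by
    show L.permCongr (α : Perm (Fin (4 * n + r))) = _
    refine Equiv.ext fun z => ?_
    have h := Equiv.ext_iff.1 hρ (e₀.symm z)
    simp only [Perm.mul_apply, hσ', Equiv.permCongr_apply, Equiv.symm_symm,
      Equiv.apply_symm_apply] at h
    rw [Equiv.permCongr_apply]
    show e₀ (ρ ((α : Perm (Fin (4 * n + r))) (ρ.symm (e₀.symm z)))) = _
    rw [show ρ.symm = ρ⁻¹ from rfl, h, Equiv.apply_symm_apply]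
  let θ : centralizer ({t} : Set G) →* Perm (Deg n r) :=
    pc.comp (((alternatingGroup (Fin (4 * n + r))).subtype.comp (Subgroup.subtype _)).comp φ.toMonoidHom)
  have hθinj : Function.Injective θ := fun a b e =>
    φ.injective (Subtype.ext (Subtype.ext (hpc e)))
  have hθmem : ∀ a, θ a ∈ (Phi n r).range := fun a => exists_pre (by
    rw [← hpcα]
    show pc _ * pc _ = pc _ * pc _
    rw [← map_mul, ← map_mul]
    exact congrArg pc (congrArg Subtype.val (mem_centralizer_singleton_iff.1 (φ a).2)))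
  let κ : centralizer ({t} : Set G) →* Wr n × Perm (Fin r) :=
    (MonoidHom.ofInjective (Phi_injective (n := n) (r := r))).symm.toMonoidHom.comp
      (θ.codRestrict _ hθmem)
  have hκ : ∀ a, Phi n r (κ a) = θ a := fun a => by
    have := (MonoidHom.ofInjective (Phi_injective (n := n) (r := r))).apply_symm_apply ⟨θ a, hθmem a⟩
    exact congrArg Subtype.val this
  have hκinj : Function.Injective κ := fun a b e => hθinj (by rw [← hκ, ← hκ, e])
  have hκsign : ∀ a, Equiv.Perm.sign (κ a).2 = sgn (par n (κ a).1) := fun a => by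
    have h : Equiv.Perm.sign (θ a) = 1 := by
      show Equiv.Perm.sign (L.permCongr _) = 1
      rw [Equiv.Perm.sign_permCongr]
      exact mem_alternatingGroup.1 (φ a).1.2
    rw [← hκ, sign_Phi] at h
    rw [eq_inv_of_mul_eq_one_right h, Int.units_inv_eq_self]
  have hκsurj : ∀ w π, Equiv.Perm.sign π = sgn (par n w) → ∃ a, κ a = (w, π) := by
    intro w π h
    set b := L.symm.permCongr (Phi n r (w, π)) with hb
    have hbA : b ∈ alternatingGroup (Fin (4 * n + r)) := by
      rw [mem_alternatingGroup, hb, Equiv.Perm.sign_permCongr, sign_Phi, h, Int.units_mul_self]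
    have hbpc : pc b = Phi n r (w, π) := by
      show L.permCongr b = _
      rw [hb]
      exact Equiv.ext fun z => by simp
    have hbC : (⟨b, hbA⟩ : alternatingGroup (Fin (4 * n + r))) ∈
        centralizer ({α} : Set (alternatingGroup (Fin (4 * n + r)))) := by
      refine mem_centralizer_singleton_iff.2 (Subtype.ext (hpc ?_))
      show pc (b * (α : Perm (Fin (4 * n + r)))) = pc ((α : Perm (Fin (4 * n + r))) * b)
      rw [map_mul, map_mul, hbpc, hpcα, sigma, ← map_mul, ← map_mul]
      exact congrArg (Phi n r) (Prod.ext (tau_comm w) (by simp))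
    refine ⟨φ.symm ⟨_, hbC⟩, Phi_injective ?_⟩
    rw [hκ]
    show pc (φ (φ.symm ⟨_, hbC⟩)).1.1 = _
    rw [MulEquiv.apply_symm_apply]
    exact hbpc
  let ψ₀ : centralizer ({t} : Set G) →* Wr n := (MonoidHom.fst _ _).comp κ
  have hψsurj : Function.Surjective ψ₀ := fun w => by
    obtain ⟨π, hπ⟩ := small_sign hr (sgn (par n w))
    obtain ⟨a, ha⟩ := hκsurj w π hπ
    exact ⟨a, congrArg Prod.fst ha⟩
  have htC : t ∈ centralizer ({t} : Set G) := mem_centralizer_singleton_iff.2 rfl
  have htt : ∀ a : centralizer ({t} : Set G), a * ⟨t, htC⟩ = ⟨t, htC⟩ * a := fun a =>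
    Subtype.ext (mem_centralizer_singleton_iff.1 a.2)
  have ht2 : t * t = 1 := by rw [← sq, ← ht, pow_orderOf_eq_one]
  have hψt : ψ₀ ⟨t, htC⟩ = tau n := by
    have hc : ∀ a : Wr n, a * ψ₀ ⟨t, htC⟩ = ψ₀ ⟨t, htC⟩ * a := fun a => by
      obtain ⟨x, rfl⟩ := hψsurj a
      rw [← map_mul, ← map_mul, htt]
    have hpar : par n (ψ₀ ⟨t, htC⟩) = 1 := by
      rcases wr_center hc with e | e <;> rw [e]
      · exact map_one _
      · show Multiplicative.ofAdd (∑ _x : Pt n, (1 : ZMod 2)) = 1
        rw [Finset.sum_const, Finset.card_univ, Fintype.card_prod, Fintype.card_fin, Fintype.card_fin,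
          nsmul_eq_mul, Nat.cast_mul, show ((2 : ℕ) : ZMod 2) = 0 from ZMod.natCast_self 2, mul_zero,
          zero_mul]
        rfl
    have hs := hκsign ⟨t, htC⟩
    change _ = sgn (par n (ψ₀ ⟨t, htC⟩)) at hs
    rw [hpar, map_one] at hs
    have hπ : (κ ⟨t, htC⟩).2 = 1 := ((small_three hr) _ hs).2 (by
      rw [← Prod.snd_mul, ← map_mul, show (⟨t, htC⟩ : centralizer ({t} : Set G)) * ⟨t, htC⟩ = 1 from
        Subtype.ext ht2, map_one]
      rfl)
    refine (wr_center hc).resolve_left fun e => ?_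
    have : κ ⟨t, htC⟩ = κ 1 := by rw [map_one]; exact Prod.ext e hπ
    have := congrArg Subtype.val (hκinj this)
    change t = 1 at this
    rw [this, orderOf_one] at ht
    exact absurd ht (by norm_num)
  -- adjust the Sylow subgroup
  have hSC : (S : Subgroup G) ≤ centralizer ({t} : Set G) := fun s hs =>
    mem_centralizer_singleton_iff.2 (htZ s hs)
  obtain ⟨w, hw⟩ := exists_le_cj ((S.subtype hSC).mapSurjective hψsurj) pairs_isPGroup
  obtain ⟨a, ha⟩ := hψsurj w
  have haC : (a : G) * t = t * a := mem_centralizer_singleton_iff.1 a.2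
  have hmemS : ∀ x : G, x ∈ (((a : G)⁻¹ • S : Sylow 2 G) : Subgroup G) ↔
      (a : G) * x * (a : G)⁻¹ ∈ (S : Subgroup G) := by
    intro x
    rw [Sylow.coe_subgroup_smul, Subgroup.mem_pointwise_smul_iff_inv_smul_mem]
    simp [MulAut.smul_def]
  have hconjt : (a : G) * t * (a : G)⁻¹ = t := by rw [haC, mul_inv_cancel_right]
  refine ⟨{ t := t
            S := (a : G)⁻¹ • S
            ψ := fun x => if h : x * t = t * x then ψ₀ ⟨x, mem_centralizer_singleton_iff.2 h⟩ else 1
            ψ_mul := ?_, ψ_surj := ?_, ψ_t := ?_, ker_three := ?_, ker_inv := ?_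
            t_mem := ?_, central := ?_, lift_pairs := ?_, noIndexTwo := h2 }⟩
  · intro x y hx hy
    have hxy : x * y * t = t * (x * y) := by rw [mul_assoc, hy, ← mul_assoc, hx, mul_assoc]
    rw [dif_pos hx, dif_pos hy, dif_pos hxy]
    rw [← map_mul ψ₀]
    rfl
  · intro v
    obtain ⟨x, rfl⟩ := hψsurj v
    exact ⟨x, mem_centralizer_singleton_iff.1 x.2, by rw [dif_pos (mem_centralizer_singleton_iff.1 x.2)]⟩
  · rw [dif_pos rfl]
    exact hψt
  · intro k hk hk1
    rw [dif_pos hk] at hk1
    set k' : centralizer ({t} : Set G) := ⟨k, mem_centralizer_singleton_iff.2 hk⟩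
    have hs := hκsign k'
    change _ = sgn (par n (ψ₀ k')) at hs
    rw [hk1, map_one, map_one] at hs
    have : κ (k' ^ 3) = κ 1 := by
      rw [map_pow, map_one]
      refine Prod.ext ?_ ((small_three hr) _ hs).1
      show (ψ₀ k') ^ 3 = 1
      rw [hk1, one_pow]
    exact congrArg Subtype.val (hκinj this)
  · intro y k hy hk hk1 hpar
    rw [dif_pos hk] at hk1
    rw [dif_pos hy] at hpar
    set k' : centralizer ({t} : Set G) := ⟨k, mem_centralizer_singleton_iff.2 hk⟩
    set y' : centralizer ({t} : Set G) := ⟨y, mem_centralizer_singleton_iff.2 hy⟩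
    have hs := hκsign k'
    change _ = sgn (par n (ψ₀ k')) at hs
    rw [hk1, map_one, map_one] at hs
    have hs' : Equiv.Perm.sign (κ y').2 = -1 := by
      rw [hκsign]
      show sgn (par n (ψ₀ y')) = -1
      revert hpar
      generalize par n (ψ₀ y') = z
      revert z; decide
    have : κ (y' * k' * y'⁻¹) = κ k'⁻¹ := by
      rw [map_mul, map_mul, map_inv, map_inv]
      refine Prod.ext ?_ (small_inv hr _ _ hs hs')
      show ψ₀ y' * ψ₀ k' * (ψ₀ y')⁻¹ = (ψ₀ k')⁻¹
      rw [hk1, mul_one, mul_inv_cancel, inv_one]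
    exact congrArg Subtype.val (hκinj this)
  · rw [hmemS, hconjt]
    exact htS
  · intro s hs
    rw [hmemS] at hs
    have h := htZ _ hs
    have : (a : G) * (s * t) * (a : G)⁻¹ = (a : G) * (t * s) * (a : G)⁻¹ := by
      calc (a : G) * (s * t) * (a : G)⁻¹
          = (a : G) * s * (a : G)⁻¹ * ((a : G) * t * (a : G)⁻¹) := by group
        _ = ((a : G) * t * (a : G)⁻¹) * ((a : G) * s * (a : G)⁻¹) := by rw [hconjt, h]
        _ = _ := by group
    exact mul_left_cancel (mul_right_cancel this)
  · intro v hv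
    obtain ⟨b, hb, hbv⟩ := hw (conj_mem_cj hv)
    have hbS : (b : G) ∈ (S : Subgroup G) := hb
    set x := a⁻¹ * b * a with hx
    refine ⟨(x : G), ?_, ?_⟩
    · rw [hmemS, hx]
      convert hbS using 1
      simp [mul_assoc]
    · rw [dif_pos (mem_centralizer_singleton_iff.1 x.2)]
      show ψ₀ x = v
      rw [hx, map_mul, map_mul, map_inv, hbv, ha]
      group

end CfsgLib.KondoFusion
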