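import Cfsg.Agent.KondoFusion.Trans

/-!
The fusion step: an element normalising `F i` moves the base vector of the pair `i` off the base
group and commutes with the other flips modulo `F i`.
-/

set_option autoImplicit false
set_option linter.unusedSectionVars false
set_option linter.style.haveILetI false

namespace CfsgLib.KondoFusion

open Subgroup Equiv Equiv.Perm

universe u

variable {n : ℕ} {G : Type u} [Group G] [Finite G]

/-- The indicator of the first point of a pair. -/
def dv (i : Fin n) : Pt n → ZMod 2 := fun x => if x = (i, 0) then 1 else 0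

theorem dv_ne {i k : Fin n} (h : k ≠ i) (l : Fin 2) : dv i (k, l) = 0 := if_neg (by simp [h])

theorem dv_self (i : Fin n) (l : Fin 2) : dv i (i, l) = if l = 0 then 1 else 0 := by
  simp [dv]

theorem wt_one_add_pv (i : Fin n) : ¬ Odd (Frame.wt ((1 : Pt n → ZMod 2) + pv i)) := by
  have e : pv i = Frame.ind ({(i, 0), (i, 1)} : Finset (Pt n)) := by
    funext ⟨k, l⟩
    rcases fin2_cases l with rfl | rfl <;> simp [pv, Frame.ind]
  rw [e, Frame.wt_one_add, Frame.wt_ind, Finset.card_pair (by simp), Fintype.card_prod,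
    Fintype.card_fin, Fintype.card_fin, Nat.not_odd_iff_even]
  exact ⟨n - 1, by omega⟩

namespace Setting

variable {X : Setting n G}

theorem F_normal {i : Fin n} {w a : G} (hw : w ∈ X.J) (ha : a ∈ X.F i) : cn w a ∈ X.F i :=
  X.normalized (X.F_le_J i) (X.card_F i) (fun _ h => X.F_sq h) hw ha

variable (X) in
/-- The common part of the base group and `F i`. -/
def U (i : Fin n) : Subgroup G := X.E ⊓ X.F i

theorem mem_U {i : Fin n} {a : G} : a ∈ X.U i ↔ a ∈ X.F i ∧ X.bt a i = 0 := by
  refine ⟨fun h => ⟨h.2, (mem_E.1 h.1).2 i⟩, fun h => ⟨mem_E.2 ⟨X.F_le_J i h.1, fun k => ?_⟩, h.1⟩⟩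
  rcases eq_or_ne k i with rfl | hk
  · exact h.2
  · exact (mem_F.1 h.1).2.2 k hk

theorem emb_mem_U {i : Fin n} {v : Pt n → ZMod 2} (h : v (i, 0) = v (i, 1)) : X.emb v ∈ X.U i :=
  mem_U.2 ⟨mem_F.2 ⟨emb_mem_J v, by rw [ee_emb]; exact h, fun k _ => bt_emb v k⟩, bt_emb v i⟩

theorem pv_mem_U (i k : Fin n) : X.emb (pv k) ∈ X.U i := emb_mem_U (by simp [pv])

theorem emb_pv_ne_one (i : Fin n) : X.emb (pv i) ≠ 1 := fun h => by
  rw [← X.emb_zero] at h
  have := congrFun (X.emb_inj h) (i, 0)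
  rw [pv_self] at this
  exact one_ne_zero this

theorem conj_dv (i : Fin n) {a : G} (ha : a ∈ X.J) :
    cn (X.emb (dv i)) a = if X.bt a i = 0 then a else a * X.emb (pv i) := by
  rw [cn, conj_emb _ ha]
  split_ifs with h
  · conv_rhs => rw [← mul_one a, ← X.emb_zero]
    congr 2
    funext ⟨k, l⟩
    rcases eq_or_ne k i with rfl | hk
    · rw [h, add_zero, CharTwo.add_self_eq_zero]; rfl
    · rw [dv_ne hk, dv_ne hk, add_zero]; rfl
  · congr 2
    funext ⟨k, l⟩
    rcases eq_or_ne k i with rfl | hk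
    · show dv k (k, l) + dv k (k, l + X.bt a k) = pv k (k, l)
      rw [(fin2_cases _).resolve_left h, pv_self, dv_self, dv_self]
      revert l; decide
    · rw [dv_ne hk, dv_ne hk, pv_ne hk, add_zero]

/-- An element normalising `F i` and `U i` normalises the base group. -/
theorem mem_NE_of_norm {i k : Fin n} (hk : k ≠ i) {y : G} (hy : ∀ a ∈ X.U i, cn y a ∈ X.U i) :
    y ∈ X.NE := by
  have hU : cj y (X.U i) = X.U i := cj_of_cn hy
  set P : Subgroup G := centralizer (X.U i : Set G) with hPdef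
  have hPC : P ≤ X.C := fun c hc => X.mem_C.2 (mem_centralizer_iff.1 hc X.t ⟨X.t_mem_E, X.t_mem_F i⟩).symm
  have hperm : ∀ c ∈ P, X.ψ c ∈ pairs n := by
    intro c hc x
    by_contra hne
    have hfix : ∀ v : Pt n → ZMod 2, v (i, 0) = v (i, 1) → ∀ z, v ((X.ψ c).p.symm z) = v z := by
      intro v hv z
      have h := mem_centralizer_iff.1 hc _ (emb_mem_U (X := X) hv)
      have h' := X.map_conj (hPC hc) (X.S_le (X.emb_mem v).1)
      rw [← h, mul_inv_cancel_right, X.ψ_emb, conj_bse] at h'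
      exact (congrFun (congrArg Wr.e h') z).symm
    by_cases hx : x.1 = i
    · have h := hfix (fun w => if w = (X.ψ c).p x then 1 else 0) (by
        rw [if_neg (fun h => hne (by rw [← h, hx])), if_neg (fun h => hne (by rw [← h, hx]))]) ((X.ψ c).p x)
      simp only [Equiv.symm_apply_apply, if_pos] at h
      rw [if_neg (fun h => hne (by rw [← h]))] at h
      exact zero_ne_one h
    · have h := hfix (fun w => if w = x then 1 else 0) (by
        rw [if_neg (fun h => hx (by rw [← h])), if_neg (fun h => hx (by rw [← h]))]) ((X.ψ c).p x)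
      simp only [Equiv.symm_apply_apply, if_pos] at h
      rw [if_neg (fun h => hne (by rw [h]))] at h
      exact one_ne_zero h
  have hP : IsPGroup 2 P := by
    intro c
    refine ⟨2, Subtype.ext ?_⟩
    have hc2 : (c : G) * c ∈ P := P.mul_mem c.2 c.2
    have hc4 : (c : G) * c * (c * c) ∈ P := P.mul_mem hc2 hc2
    have h1 : X.ψ ((c : G) * c * (c * c)) = 1 := by
      rw [X.mul' (hPC hc2) (hPC hc2), X.mul' (hPC c.2) (hPC c.2), sq_eq (hperm c c.2)]
      exact four_sq ((four_empty _).2 rfl)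
    set z := (c : G) * c * (c * c) with hz
    have hu := emb_mem_U (X := X) (i := i) (v := dv k)
      (by rw [dv_ne hk.symm, dv_ne hk.symm])
    have h2 := X.ker_inv (X.emb (dv k)) z (X.mem_C.1 (X.S_le (X.emb_mem _).1))
      (X.mem_C.1 (hPC hc4)) h1 (by
        rw [X.ψ_emb]
        show Multiplicative.ofAdd (∑ x, dv k x) ≠ 1
        simp [dv])
    rw [mem_centralizer_iff.1 hc4 _ hu, mul_inv_cancel_right] at h2
    have h3 := X.ker_three z (X.mem_C.1 (hPC hc4)) h1
    have h4 : z ^ 2 = 1 := by rw [sq]; nth_rw 1 [h2]; exact inv_mul_cancel z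
    have : z = 1 := by
      rw [pow_succ, h4, one_mul] at h3
      exact h3
    show (c : G) ^ 2 ^ 2 = 1
    rw [← this, hz]
    simp [pow_succ, mul_assoc]
  have hEP : X.E ≤ P := fun e he => mem_centralizer_iff.2 fun u hu =>
    comm_of_sq (fun _ h => X.E_sq h) hu.1 he
  refine X.weakly_closed hP hEP ?_
  rintro _ ⟨e, he, rfl⟩
  refine mem_centralizer_iff.2 fun u hu => ?_
  have hu' : u ∈ cj y (X.U i) := by rw [hU]; exact hu
  obtain ⟨u', hu', rfl⟩ := hu'
  rw [← _root_.map_mul, ← _root_.map_mul, comm_of_sq (fun _ h => X.E_sq h) hu'.1 he]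

/-- The centraliser of `F i` is `F i`. -/
theorem mem_F_of_central {i k : Fin n} (hk : k ≠ i) {c : G} (hc : ∀ a ∈ X.F i, cn c a = a) :
    c ∈ X.F i := by
  have hcn : c ∈ X.NE := mem_NE_of_norm hk fun a ha => by rw [hc a ha.2]; exact ha
  have hcomm : ∀ a ∈ X.F i, c * a = a * c := fun a ha => mul_inv_eq_iff_eq_mul.1 (hc a ha)
  have hcC : c ∈ X.C := X.mem_C.2 (hcomm _ (X.t_mem_F i))
  have hact : ∀ v : Pt n → ZMod 2, v (i, 0) = v (i, 1) → ∀ z, v ((X.ψ c).p.symm z) = v z := by
    intro v hv z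
    have h' : X.actFun c v = v := by
      apply X.emb_inj
      rw [X.emb_actFun hcn]
      exact hc _ (emb_mem_U hv).2
    rw [X.actFun_of_C hcC] at h'
    exact congrFun h' z
  have hp : X.ψ c ∈ four ({i} : Finset (Fin n)) := by
    have hpairs : X.ψ c ∈ pairs n := by
      intro x
      by_contra hne
      by_cases hx : x.1 = i
      · have h := hact (fun w => if w = (X.ψ c).p x then 1 else 0) (by
          rw [if_neg (fun h => hne (by rw [← h, hx])), if_neg (fun h => hne (by rw [← h, hx]))]) ((X.ψ c).p x)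
        simp only [Equiv.symm_apply_apply, if_pos] at h
        rw [if_neg (fun h => hne (by rw [← h]))] at h
        exact zero_ne_one h
      · have h := hact (fun w => if w = x then 1 else 0) (by
          rw [if_neg (fun h => hx (by rw [← h])), if_neg (fun h => hx (by rw [← h]))]) ((X.ψ c).p x)
        simp only [Equiv.symm_apply_apply, if_pos] at h
        rw [if_neg (fun h => hne (by rw [h]))] at h
        exact one_ne_zero h
    refine ⟨hpairs, fun j hj => ?_, fun j hj => ?_⟩
    · rw [Finset.mem_singleton] at hj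
      subst hj
      have h := congrArg X.ψ (hcomm _ (X.flip_mem_F j))
      rw [X.mul' hcC (X.S_le (X.flip_mem j).1), X.mul' (X.S_le (X.flip_mem j).1) hcC] at h
      have h1 := congrFun (congrArg Wr.e h) (j, 0)
      rw [mul_e_apply hpairs, mul_e_apply (X.flip_mem j).2, X.ψ_flip, bit_mkPair,
        Function.update_self] at h1
      simpa [mkPair] using h1
    · have hji : j ≠ i := by simpa using hj
      rcases fin2_cases (bit (X.ψ c) j) with e | e
      · exact e
      · have h := hact (fun w => if w = (j, 0) then 1 else 0) (by simp [hji.symm]) (j, 1)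
        rw [symm_apply_eq' hpairs, e] at h
        simp at h
  obtain ⟨a, ha, hac⟩ := X.exists_lift (four_le_pairs _) hp
  -- both lie in the centraliser of `U i`, a `2`-group
  have hk3 : X.ψ (c * a⁻¹) = 1 := by
    rw [X.mul' hcC (X.C.inv_mem (X.S_le ha.1)), X.map_inv (X.S_le ha.1), hac, mul_inv_cancel]
  have hzC : c * a⁻¹ ∈ X.C := X.C.mul_mem hcC (X.C.inv_mem (X.S_le ha.1))
  have hu := emb_mem_U (X := X) (i := i) (v := dv k)
    (by rw [dv_ne hk.symm, dv_ne hk.symm])
  have h2 := X.ker_inv (X.emb (dv k)) _ (X.mem_C.1 (X.S_le (X.emb_mem _).1))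
    (X.mem_C.1 hzC) hk3 (by
      rw [X.ψ_emb]
      show Multiplicative.ofAdd (∑ x, dv k x) ≠ 1
      simp [dv])
  have hcomm' : X.emb (dv k) * (c * a⁻¹) = c * a⁻¹ * X.emb (dv k) := by
    have h1 := comm_of_sq (fun _ h => X.F_sq h) hu.2 ((X.F i).inv_mem ha)
    rw [← mul_assoc, ← hcomm _ hu.2, mul_assoc, h1, ← mul_assoc]
  rw [hcomm', mul_inv_cancel_right] at h2
  have h3 := X.ker_three _ (X.mem_C.1 hzC) hk3
  have h4 : (c * a⁻¹) ^ 2 = 1 := by rw [sq]; nth_rw 1 [h2]; exact inv_mul_cancel _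
  rw [pow_succ, h4, one_mul, mul_inv_eq_one] at h3
  rw [h3]
  exact ha

/-- Lemma C. -/
theorem fix_U {i : Fin n} {y : G} (hy : y ∈ X.NE)
    (h : ∀ a ∈ X.U i, cn y a = a ∨ cn y a = a * X.emb (pv i)) {a : G} (ha : a ∈ X.U i) :
    cn y a = a := by
  have hval : ∀ v : Pt n → ZMod 2, v (i, 0) = v (i, 1) →
      X.actFun y v = v ∨ X.actFun y v = v + pv i := by
    intro v hv
    rcases h _ (emb_mem_U hv) with e | e
    · exact Or.inl (X.emb_inj (by rw [X.emb_actFun hy]; exact e))
    · exact Or.inr (X.emb_inj (by rw [X.emb_actFun hy, X.emb_add]; exact e))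
  have h1 : X.actFun y 1 = 1 := by
    refine (hval 1 rfl).resolve_right fun e => wt_one_add_pv i ?_
    have hne : X.act ⟨y, hy⟩ (1 : Pt n → ZMod 2) ≠ 1 := by
      rw [act_apply, e]
      intro e'
      have := congrFun e' (i, 0)
      simp [pv_self] at this
    have h' := X.act_hyp.odd_weight ⟨⟨y, hy⟩, rfl⟩ hne
    rwa [act_apply, e] at h'
  have hyC := X.mem_C_of_fix hy h1
  set p := (X.ψ y).p
  have hout : ∀ x : Pt n, x.1 ≠ i → p x = x := by
    intro x hx
    have hne : ∀ l, ((i, l) : Pt n) ≠ x := fun l e => hx (by rw [← e])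
    set v : Pt n → ZMod 2 := fun w => if w = x then 1 else 0 with hv
    rcases hval v (by simp [hv, hne 0, hne 1]) with e | e <;> rw [X.actFun_of_C hyC] at e
    · have := congrFun e (p x)
      simpa [hv, Frame.permV_apply, p] using this
    · exfalso
      by_cases hpi : p.symm (i, 0) = x
      · have := congrFun e (i, 1)
        rw [Frame.permV_apply, Pi.add_apply, pv_self] at this
        simp [hv, hne 1, p] at this
        have h01 : p.symm (i, 0) = p.symm (i, 1) := hpi.trans this.symm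
        simpa using p.symm.injective h01
      · have := congrFun e (i, 0)
        rw [Frame.permV_apply, Pi.add_apply, pv_self] at this
        simp [hv, hne 0, p] at this
        exact hpi this
  obtain ⟨haF, -⟩ := mem_U.1 ha
  have haE : a ∈ X.E := ha.1
  rw [X.eq_emb haE]
  refine (X.emb_actFun hy _).symm.trans (congrArg X.emb ?_)
  rw [X.actFun_of_C hyC]
  funext x
  show (X.ψ a).e (p.symm x) = (X.ψ a).e x
  by_cases hx : x.1 = i
  · have hin : (p.symm x).1 = i := by
      by_contra hn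
      have h' := hout _ hn
      rw [Equiv.apply_symm_apply] at h'
      exact hn (by rw [← h']; exact hx)
    rw [show p.symm x = (i, (p.symm x).2) from Prod.ext hin rfl, show x = (i, x.2) from Prod.ext hx rfl]
    exact (F_const haF _).trans (F_const haF _).symm
  · congr 1
    rw [Equiv.symm_apply_eq, hout x hx]

/-- Lemma D. -/
theorem fix_pv {i : Fin n} {y : G} (hy : y ∈ X.NE) (hF : cj y (X.F i) = X.F i) :
    cn y (X.emb (pv i)) = X.emb (pv i) := by
  have hflip := conj_dv (X := X) i (X.flip_mem i)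
  rw [bt_flip_self, if_neg one_ne_zero] at hflip
  have hd : cn y (X.emb (dv i)) ∈ X.E := cn_mem hy (X.emb_mem _)
  have ha : cn y (X.flip i) ∈ X.F i := cn_mem hF (X.flip_mem_F i)
  obtain ⟨v, hv⟩ : ∃ v, cn y (X.emb (dv i)) = X.emb v := ⟨_, X.eq_emb hd⟩
  set a := cn y (X.flip i)
  set s := X.emb (pv i)
  have key : cn (X.emb v) a = a * cn y s := by
    rw [← hv, ← cn_mul, ← hflip]
    simp only [cn, a]
    group
  have hw : cn (X.emb v) a = a ∨ cn (X.emb v) a = a * s := by
    rw [cn, conj_emb v (X.F_le_J i ha)]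
    set s₀ : ZMod 2 := if X.bt a i = 0 then 0 else v (i, 0) + v (i, 1)
    have e : (fun x : Pt n => v x + v (x.1, x.2 + X.bt a x.1)) =
        fun x => if x.1 = i then s₀ else 0 := by
      funext ⟨k, l⟩
      rcases eq_or_ne k i with rfl | hk
      · rw [if_pos rfl]
        simp only [s₀]
        rcases fin2_cases (X.bt a k) with e | e <;> rw [e]
        · rw [if_pos rfl, add_zero, CharTwo.add_self_eq_zero]
        · rw [if_neg one_ne_zero]
          rcases fin2_cases l with rfl | rfl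
          · rfl
          · rw [show (1 : Fin 2) + 1 = 0 from rfl, add_comm]
      · rw [if_neg hk, (mem_F.1 ha).2.2 k hk, add_zero, CharTwo.add_self_eq_zero]
    rw [e]
    rcases zmod2_cases s₀ with e' | e' <;> rw [e']
    · left
      rw [show (fun x : Pt n => if x.1 = i then (0 : ZMod 2) else 0) = 0 from funext fun x => ite_self 0,
        X.emb_zero, mul_one]
    · exact Or.inr rfl
  rcases hw with e | e <;> rw [key] at e
  · have h1 : cn y s = 1 := by simpa using e
    exfalso
    refine emb_pv_ne_one (X := X) i ?_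
    simp only [cn] at h1
    rwa [conj_eq_one_iff] at h1
  · exact mul_left_cancel e

/-- Lemma B. -/
theorem center_mem_U {i k : Fin n} (hk : k ≠ i) {y c : G} {H : Subgroup G}
    (h : Tv (X.F i) y c H) (ht : X.emb (pv i) ∈ H) : c ∈ X.U i := by
  have hsq : ∀ a ∈ X.F i, a * a = 1 := fun _ h => X.F_sq h
  classical
  set d := X.emb (dv i)
  set s := X.emb (pv i) with hs
  have hdF : cj d (X.F i) = X.F i := cj_of_cn fun a ha => F_normal (emb_mem_J _) ha
  have hsU : s ∈ X.U i := pv_mem_U i i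
  have hsbt : X.bt s i = 0 := bt_emb _ i
  by_contra hc
  have hbc : X.bt c i = 1 :=
    (fin2_cases _).resolve_left fun e => hc (mem_U.2 ⟨h.memW, e⟩)
  have hys : cn y s = s := h.fix s ht
  have hyc : cn y c = c := h.fix c h.mem
  set w := d * (y * d * y⁻¹)
  have key : ∀ a ∈ X.F i, (a ∈ H → cn w a = a) ∧ (a ∉ H → cn w a = a * s) := by
    intro a ha
    have haJ := X.F_le_J i ha
    have hinv : cn y⁻¹ a = if a ∈ H then a else a * c := by
      apply (MulAut.conj y).injective
      show cn y (cn y⁻¹ a) = cn y _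
      rw [← cn_mul_left, mul_inv_cancel]
      split_ifs with ha'
      · rw [h.fix a ha']; simp [cn]
      · rw [cn_mul, h.move a ha ha', hyc, mul_assoc, hsq c h.memW]; simp [cn]
    have hw : cn w a = cn d (cn y (cn d (cn y⁻¹ a))) := by
      rw [← cn_mul_left, ← cn_mul_left, ← cn_mul_left]
      congr 1
      simp only [w, mul_assoc]
    have hacJ : a * c ∈ X.J := X.J.mul_mem haJ (X.F_le_J i h.memW)
    have hsd : X.bt (a * c) i = X.bt a i + 1 := by rw [bt_mul haJ (X.F_le_J i h.memW), hbc]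
    have hds : cn d s = s := by rw [conj_dv i (emb_mem_J _), if_pos hsbt]
    refine ⟨fun ha' => ?_, fun ha' => ?_⟩ <;> rw [hw, hinv]
    · rw [if_pos ha', conj_dv i haJ]
      rcases fin2_cases (X.bt a i) with e | e
      · rw [if_pos e, h.fix a ha', conj_dv i haJ, if_pos e]
      · have e' : X.bt a i ≠ 0 := by rw [e]; exact one_ne_zero
        rw [if_neg e', ← hs, cn_mul, h.fix a ha', hys, cn_mul, hds, conj_dv i haJ, if_neg e', ← hs,
          mul_assoc, hsq s hsU.2, mul_one]
    · rw [if_neg ha', conj_dv i hacJ, hsd]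
      rcases fin2_cases (X.bt a i) with e | e <;> rw [e]
      · rw [if_neg (by decide), ← hs, cn_mul y, cn_mul y, h.move a ha ha', hyc, hys,
          mul_assoc a c c, hsq c h.memW, mul_one, cn_mul, hds, conj_dv i haJ, if_pos e]
      · rw [if_pos (by rfl), cn_mul, h.move a ha ha', hyc, mul_assoc, hsq c h.memW, mul_one,
          conj_dv i haJ, if_neg (by rw [e]; exact one_ne_zero)]
  have hwU : ∀ a ∈ X.U i, cn w a = a ∨ cn w a = a * s := fun a ha =>
    (em (a ∈ H)).imp (key a ha.2).1 (key a ha.2).2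
  have hwN : w ∈ X.NE := mem_NE_of_norm hk fun a ha => by
    rcases hwU a ha with e | e <;> rw [e]
    · exact ha
    · exact (X.U i).mul_mem ha hsU
  have hUH : X.U i ≤ H := fun a ha => by
    by_contra ha'
    have e := fix_U hwN hwU ha
    rw [(key a ha.2).2 ha'] at e
    exact emb_pv_ne_one (X := X) i (mul_eq_left.1 e)
  refine h.ne (le_antisymm h.le fun a ha => ?_)
  rcases fin2_cases (X.bt a i) with e | e
  · exact hUH (mem_U.2 ⟨ha, e⟩)
  · refine (H.mul_mem_cancel_right h.mem).1 (hUH (mem_U.2 ⟨(X.F i).mul_mem ha h.memW, ?_⟩))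
    rw [bt_mul (X.F_le_J i ha) (X.F_le_J i h.memW), e, hbc]
    rfl

variable (X) in
/-- The vectors of `F i` fixed by the flip of the pair `k`. -/
def axis (i k : Fin n) : Subgroup G := X.F i ⊓ X.lift (four {i, k})

theorem mem_axis {i k : Fin n} {a : G} :
    a ∈ X.axis i k ↔ a ∈ X.F i ∧ X.ee a (k, 0) = X.ee a (k, 1) := by
  refine ⟨fun h => ⟨h.1, h.2.2.2.1 k (by simp)⟩, fun h => ⟨h.1, h.1.1, h.1.2.1, fun j hj => ?_,
    fun j hj => ?_⟩⟩
  · rw [Finset.mem_insert, Finset.mem_singleton] at hj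
    rcases hj with rfl | rfl
    · exact (mem_F.1 h.1).2.1
    · exact h.2
  · exact (mem_F.1 h.1).2.2 j (fun e => hj (by simp [e]))

theorem flip_tv {i k : Fin n} (hk : k ≠ i) :
    Tv (X.F i) (X.flip k) (X.emb (pv k)) (X.axis i k) := by
  refine ⟨cj_of_cn fun a ha => F_normal (X.flip_mem k) ha,
    mem_axis.2 ⟨(pv_mem_U i k).2, by rw [ee_emb, pv_self, pv_self]⟩, emb_pv_ne_one k,
    inf_le_left, fun e => ?_, fun a ha => ?_, fun a ha ha' => ?_⟩
  · have h : X.emb (dv k) ∈ X.axis i k := by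
      rw [e]
      exact (emb_mem_U (by rw [dv_ne hk.symm, dv_ne hk.symm])).2
    have h' := (mem_axis.1 h).2
    rw [ee_emb] at h'
    simp [dv] at h'
  · obtain ⟨haF, he⟩ := mem_axis.1 ha
    rw [cn, conj_flip hk haF, he, CharTwo.add_self_eq_zero]
    rw [show (fun x : Pt n => if x.1 = k then (0 : ZMod 2) else 0) = 0 from funext fun x => ite_self 0,
      X.emb_zero, mul_one]
  · have he : X.ee a (k, 0) + X.ee a (k, 1) = 1 := by
      refine (zmod2_cases _).resolve_left fun e => ha' (mem_axis.2 ⟨ha, ?_⟩)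
      exact CharTwo.add_eq_zero.1 e
    rw [cn, conj_flip hk ha, he]
    rfl

/-- The element produced by transfer, improved. -/
theorem step (hn : 2 ≤ n) (i : Fin n) : ∃ y : G, cj y (X.F i) = X.F i ∧
    cn y (X.emb (pv i)) ∉ X.U i ∧ ∀ k, k ≠ i → cn y (X.flip k) * (X.flip k)⁻¹ ∈ X.F i := by
  obtain ⟨g, hgF, hgflip⟩ := X.flip_fused i
  haveI : Nontrivial (Fin n) := Fin.nontrivial_iff_two_le.2 hn
  obtain ⟨k₀, hk₀⟩ := exists_ne i
  have hsq : ∀ a ∈ X.F i, a * a = 1 := fun _ h => X.F_sq h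
  set d := X.emb (dv i)
  set s := X.emb (pv i) with hs
  have hsU : s ∈ X.U i := pv_mem_U i i
  set δ := cn g d with hδ
  set c := cn g s with hc
  set A := cj g (X.U i) with hA
  have hgF' : cj g⁻¹ (X.F i) = X.F i := cj_inv_of_cj hgF
  have hδA : Tv (X.F i) δ c A := by
    have key : ∀ a ∈ X.F i, (a ∈ A → cn δ a = a) ∧ (a ∉ A → cn δ a = a * c) := by
      intro a ha
      have h0 : cn g⁻¹ a ∈ X.F i := cn_mem hgF' ha
      have hiff : a ∈ A ↔ X.bt (cn g⁻¹ a) i = 0 := by
        rw [hA, mem_cj]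
        rw [show g⁻¹ * a * g = cn g⁻¹ a by simp [cn], mem_U]
        exact and_iff_right h0
      have e : cn δ a = cn g (cn d (cn g⁻¹ a)) := by simp only [hδ, cn]; group
      rw [e, conj_dv i (X.F_le_J i h0)]
      refine ⟨fun h => ?_, fun h => ?_⟩
      · rw [if_pos (hiff.1 h)]; simp [cn, mul_assoc]
      · rw [if_neg fun h' => h (hiff.2 h'), cn_mul, ← hs, ← hc]; simp [cn, mul_assoc]
    refine ⟨cj_of_cn fun a ha => ?_, conj_mem_cj hsU, fun e => emb_pv_ne_one (X := X) i ?_,
      fun a ha => hgF ▸ cj_mono g inf_le_right ha, fun e => ?_, fun a ha => (key a ?_).1 ha,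
      fun a ha ha' => (key a ha).2 ha'⟩
    · by_cases h : a ∈ A
      · rw [(key a ha).1 h]; exact ha
      · rw [(key a ha).2 h]; exact (X.F i).mul_mem ha (cn_mem hgF hsU.2)
    · rw [hc, cn, conj_eq_one_iff] at e; exact e
    · have h : cn g (X.flip i) ∈ A := e ▸ cn_mem hgF (X.flip_mem_F i)
      rw [hA, mem_cj] at h
      have h' := (mem_U.1 h).2
      rw [show g⁻¹ * cn g (X.flip i) * g = X.flip i by simp [cn, mul_assoc], bt_flip_self] at h'
      exact one_ne_zero h'
    · exact hgF ▸ cj_mono g inf_le_right ha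
  have hflipU : cn g (X.flip i) ∈ X.U i := ⟨hgflip, cn_mem hgF (X.flip_mem_F i)⟩
  have hAU : A ≠ X.U i := by
    intro e
    rw [← e, hA, mem_cj, show g⁻¹ * cn g (X.flip i) * g = X.flip i by simp [cn, mul_assoc],
      mem_U, bt_flip_self] at hflipU
    exact one_ne_zero hflipU.2
  have hcU : c ∉ X.U i := by
    intro hcU
    have hδN : δ ∈ X.NE := mem_NE_of_norm hk₀ fun a ha => by
      by_cases h : a ∈ A
      · rw [hδA.fix a h]; exact ha
      · rw [hδA.move a ha.2 h]; exact (X.U i).mul_mem ha hcU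
    have hJle : X.E ⊔ X.F i ≤ X.J := sup_le X.E_le_J (X.F_le_J i)
    have hδ2 : δ * δ = 1 := by
      calc cn g d * cn g d = cn g (d * d) := (cn_mul _ _ _).symm
        _ = 1 := by rw [X.E_sq (X.emb_mem _)]; simp [cn]
    have hP0 : IsPGroup 2 ↥(X.E ⊔ X.F i) := (X.lift_isPGroup (pairs n)).to_le hJle
    have hz : IsPGroup 2 (zpowers δ) := isPGroup_of_sq (by
      intro a ha
      obtain ⟨j, rfl⟩ := mem_zpowers_iff.1 ha
      rw [← (Commute.refl δ).mul_zpow, hδ2, one_zpow])
    have hnorm : zpowers δ ≤ normalizer ((X.E ⊔ X.F i : Subgroup G) : Set G) := by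
      rw [zpowers_le, mem_normalizer_iff]
      have e : cj δ (X.E ⊔ X.F i) = X.E ⊔ X.F i := by
        unfold cj
        rw [Subgroup.map_sup]
        exact congrArg₂ (· ⊔ ·) hδN hδA.norm
      exact fun a => (cj_normal_iff e).symm
    have hP := hz.to_sup_of_normal_right' hP0 hnorm
    have hgE : cj g X.E = X.E := by
      refine X.weakly_closed hP (le_sup_of_le_right le_sup_left) ?_
      rintro _ ⟨a, ha, rfl⟩
      show cn g a ∈ zpowers δ ⊔ (X.E ⊔ X.F i)
      rcases eq_or_ne (X.ee a (i, 0)) (X.ee a (i, 1)) with e | e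
      · exact le_sup_right (a := zpowers δ)
          (le_sup_right (a := X.E) (cn_mem hgF (mem_F.2 ⟨X.E_le_J ha, e, fun k _ => (mem_E.1 ha).2 k⟩)))
      · have hb : d * a ∈ X.F i := by
          refine mem_F.2 ⟨X.J.mul_mem (emb_mem_J _) (X.E_le_J ha), ?_, fun k _ => ?_⟩
          · rw [ee_mul (emb_mem_J _) (X.E_le_J ha), ee_mul (emb_mem_J _) (X.E_le_J ha), bt_emb,
              ee_emb, dv_self, dv_self, if_pos rfl, if_neg one_ne_zero, add_zero, add_zero]
            revert e
            generalize X.ee a (i, 0) = p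
            generalize X.ee a (i, 1) = q
            revert p q; decide
          · rw [bt_mul (emb_mem_J _) (X.E_le_J ha), bt_emb, (mem_E.1 ha).2 k, add_zero]
        rw [show cn g a = δ⁻¹ * cn g (d * a) by rw [cn_mul, ← hδ, inv_mul_cancel_left]]
        exact mul_mem (inv_mem (le_sup_left (b := X.E ⊔ X.F i) (mem_zpowers δ)))
          (le_sup_right (a := zpowers δ) (le_sup_right (a := X.E) (cn_mem hgF hb)))
    apply hAU
    rw [hA, U, cj, Subgroup.map_inf _ _ _ (MulAut.conj g).injective]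
    exact congrArg₂ (· ⊓ ·) hgE hgF
  have hsA : s ∉ A := fun h => hcU (center_mem_U hk₀ hδA h)
  have hδs : cn δ s = s * c := hδA.move s hsU.2 hsA
  refine ⟨δ, hδA.norm, ?_, fun k hk => ?_⟩
  · rw [hδs]
    exact fun h => hcU (((X.U i).mul_mem_cancel_left hsU).1 h)
  set π := X.flip k
  set e := X.emb (pv k) with he
  set B := X.axis i k
  have hp : Tv (X.F i) π e B := flip_tv hk
  have hsB : s ∈ B := mem_axis.2 ⟨hsU.2, by rw [hs, ee_emb, pv_ne hk, pv_ne hk]⟩
  have hpi : π⁻¹ = π := inv_eq_of_mul_eq_one_left (flip_sq k)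
  by_cases h1 : c ∈ B <;> by_cases h2 : e ∈ A
  · refine mem_F_of_central hk fun b hb => ?_
    set a := cn (δ⁻¹ * π⁻¹) b
    have ha : a ∈ X.F i := cn_mem (cj_mul (cj_inv_of_cj hδA.norm) (cj_inv_of_cj hp.norm)) hb
    have h := hδA.commute hsq hp h1 h2 ha
    have e1 : cn π (cn δ a) = b := by simp only [a, cn]; group
    rw [e1] at h
    refine Eq.trans ?_ h
    simp only [a, cn]
    group
  · exact absurd (center_mem_U hk (hδA.twice hsq hp h1 h2) hsB) hcU
  · exfalso
    have hw := hp.twice hsq hδA h2 h1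
    have hwN : π * δ * π * δ ∈ X.NE := mem_NE_of_norm hk fun a ha => by
      by_cases h : a ∈ A
      · rw [hw.fix a h]; exact ha
      · rw [hw.move a ha.2 h]; exact (X.U i).mul_mem ha (pv_mem_U i k)
    have h := fix_pv hwN hw.norm
    rw [hw.move _ hsU.2 hsA, ← hs] at h
    exact hp.one (mul_eq_left.1 h)
  · exfalso
    have hδi : δ⁻¹ = δ := by
      refine inv_eq_of_mul_eq_one_left ?_
      calc cn g d * cn g d = cn g (d * d) := (cn_mul _ _ _).symm
        _ = 1 := by rw [X.E_sq (X.emb_mem _)]; simp [cn]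
    set z := π * δ * π * δ * π * δ with hz
    have hzF : z ∈ X.F i := mem_F_of_central hk fun b hb => by
      set a := cn (δ * π * δ)⁻¹ b
      have ha : a ∈ X.F i :=
        cn_mem (cj_inv_of_cj (cj_mul (cj_mul hδA.norm hp.norm) hδA.norm)) hb
      have h := hδA.braid hsq hp h1 h2 ha
      have e1 : cn δ (cn π (cn δ a)) = b := by simp only [a, cn]; group
      rw [e1] at h
      refine Eq.trans ?_ h
      have e2 : z = π * δ * π * (δ * π * δ) := by rw [hz]; group
      have e3 : δ * π * δ = (δ * π * δ)⁻¹ := by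
        rw [mul_inv_rev, mul_inv_rev, hpi, hδi, ← mul_assoc]
      rw [e2, e3, cn_mul_left, cn_mul_left, cn_mul_left]
    set h' := π * δ
    have hh : cj h'⁻¹ (X.F i) = X.F i := cj_inv_of_cj (cj_mul hp.norm hδA.norm)
    have hval : cn (h'⁻¹ * g) d = cn h'⁻¹ z⁻¹ * π := by
      have e1 : cn (h'⁻¹ * g) d = cn h'⁻¹ δ := by rw [cn_mul_left]
      rw [e1]
      simp only [cn, hz, h', mul_inv_rev, inv_inv, hpi, hδi]
      simp only [mul_assoc, ← mul_assoc π π, flip_sq k, one_mul,
        ← mul_assoc δ δ, show δ * δ = 1 by nth_rw 1 [← hδi]; exact inv_mul_cancel δ, mul_one, π]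
    have hdJ : cn (h'⁻¹ * g) d ∈ X.J := by
      rw [hval]
      exact X.J.mul_mem (X.F_le_J i (cn_mem hh ((X.F i).inv_mem hzF))) (X.flip_mem k)
    have hkF : cj (h'⁻¹ * g) (X.F i) = X.F i := cj_mul hh hgF
    have hE : cj (h'⁻¹ * g) X.E ≤ X.J := by
      rintro _ ⟨a, ha, rfl⟩
      show cn _ a ∈ X.J
      rcases eq_or_ne (X.ee a (i, 0)) (X.ee a (i, 1)) with e | e
      · exact X.F_le_J i (cn_mem hkF (mem_F.2 ⟨X.E_le_J ha, e, fun j _ => (mem_E.1 ha).2 j⟩))
      · have hb : d * a ∈ X.F i := by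
          refine mem_F.2 ⟨X.J.mul_mem (emb_mem_J _) (X.E_le_J ha), ?_, fun j _ => ?_⟩
          · rw [ee_mul (emb_mem_J _) (X.E_le_J ha), ee_mul (emb_mem_J _) (X.E_le_J ha), bt_emb,
              ee_emb, dv_self, dv_self, if_pos rfl, if_neg one_ne_zero, add_zero, add_zero]
            revert e
            generalize X.ee a (i, 0) = p
            generalize X.ee a (i, 1) = q
            revert p q; decide
          · rw [bt_mul (emb_mem_J _) (X.E_le_J ha), bt_emb, (mem_E.1 ha).2 j, add_zero]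
        rw [show a = d⁻¹ * (d * a) by rw [inv_mul_cancel_left], cn_mul,
          show cn (h'⁻¹ * g) d⁻¹ = (cn (h'⁻¹ * g) d)⁻¹ by simp [cn, mul_assoc]]
        exact X.J.mul_mem (X.J.inv_mem hdJ) (X.F_le_J i (cn_mem hkF hb))
    have hEeq := X.E_unique (hE.trans fun _ hx => hx.1)
    have hdE : cn (h'⁻¹ * g) d ∈ X.E := cn_mem hEeq (X.emb_mem _)
    have hb := (mem_E.1 hdE).2 k
    rw [hval, bt_mul (X.F_le_J i (cn_mem hh ((X.F i).inv_mem hzF))) (X.flip_mem k),
      (mem_F.1 (cn_mem hh ((X.F i).inv_mem hzF))).2.2 k hk, bt_flip_self, zero_add] at hb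
    exact one_ne_zero hb

end Setting

end CfsgLib.KondoFusion
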