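import Cfsg.Agent.KondoFusion.Calc

/-!
Transvections induced on one maximal elementary abelian subgroup.
-/

set_option autoImplicit false
set_option linter.unusedSectionVars false
set_option linter.style.haveILetI false

namespace CfsgLib.KondoFusion

open Subgroup

universe u

variable {G : Type u} [Group G] [Finite G]

/-- Conjugation. -/
def cn (x a : G) : G := x * a * x⁻¹

theorem cn_mul (x a b : G) : cn x (a * b) = cn x a * cn x b := by simp only [cn]; group

theorem cn_mul_left (x y a : G) : cn (x * y) a = cn x (cn y a) := by simp only [cn]; group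

theorem cn_mem {A : Subgroup G} {x a : G} (h : cj x A = A) (ha : a ∈ A) : cn x a ∈ A := by
  rw [← h]; exact conj_mem_cj ha

theorem cj_of_cn {A : Subgroup G} {x : G} (h : ∀ a ∈ A, cn x a ∈ A) : cj x A = A :=
  cj_eq_of_le h

theorem cj_mul {A : Subgroup G} {x y : G} (hx : cj x A = A) (hy : cj y A = A) :
    cj (x * y) A = A := by
  rw [← cj_cj, hy, hx]

/-- `y` induces a transvection of the subgroup `W` of exponent two with axis `H`. -/
structure Tv (W : Subgroup G) (y c : G) (H : Subgroup G) : Prop where
  norm : cj y W = W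
  mem : c ∈ H
  one : c ≠ 1
  le : H ≤ W
  ne : H ≠ W
  fix : ∀ a ∈ H, cn y a = a
  move : ∀ a ∈ W, a ∉ H → cn y a = a * c

namespace Tv

variable {W H A B : Subgroup G} {y c δ π e : G}

theorem memW (h : Tv W y c H) : c ∈ W := h.le h.mem

theorem mul_mem_iff (h : Tv W y c H) (hW : ∀ a ∈ W, a * a = 1) {a b : G} (ha : a ∈ W)
    (hb : b ∈ W) : a * b ∈ H ↔ (a ∈ H ↔ b ∈ H) := by
  by_cases h1 : a ∈ H
  · simp only [h1, true_iff]
    exact H.mul_mem_cancel_left h1
  · by_cases h2 : b ∈ H
    · simp only [h1, h2, iff_true, iff_false]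
      exact fun h' => h1 ((H.mul_mem_cancel_right h2).1 h')
    · simp only [h1, h2, iff_self, iff_true]
      by_contra h3
      have e1 := h.move _ (W.mul_mem ha hb) h3
      rw [cn_mul, h.move a ha h1, h.move b hb h2] at e1
      apply h.one
      have hcb : c * b = b * c := comm_of_sq hW h.memW hb
      rw [mul_assoc a c, ← mul_assoc c, hcb, mul_assoc b c, hW c h.memW, mul_one] at e1
      exact (left_eq_mul.1 e1)

variable (hW : ∀ a ∈ W, a * a = 1) (hd : Tv W δ c A) (hp : Tv W π e B)
include hW hd hp

theorem cross {a : G} (ha : a ∈ W) : a * c ∈ B ↔ (a ∈ B ↔ c ∈ B) :=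
  hp.mul_mem_iff hW ha hd.memW

/-- Two transvections whose centres lie in each other's axes commute. -/
theorem commute (hc : c ∈ B) (he : e ∈ A) {a : G} (ha : a ∈ W) :
    cn δ (cn π a) = cn π (cn δ a) := by
  have hce : c * e = e * c := comm_of_sq hW hd.memW hp.memW
  by_cases h1 : a ∈ A <;> by_cases h2 : a ∈ B
  · rw [hp.fix a h2, hd.fix a h1, hp.fix a h2]
  · rw [hp.move a ha h2, hd.fix _ (A.mul_mem h1 he), hd.fix a h1, hp.move a ha h2]
  · rw [hp.fix a h2, hd.move a ha h1, hp.fix _ (B.mul_mem h2 hc)]
  · rw [hp.move a ha h2, hd.move a ha h1, cn_mul, cn_mul, hd.move a ha h1, hp.move a ha h2,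
      hd.fix e he, hp.fix c hc, mul_assoc, mul_assoc, hce]

/-- The commutator when one centre lies in the other axis. -/
theorem twice (hc : c ∈ B) (he : e ∉ A) : Tv W (δ * π * δ * π) c B := by
  have hcW := hd.memW
  have heW := hp.memW
  have hce : c * e = e * c := comm_of_sq hW hcW heW
  classical
  have key : ∀ a ∈ W, cn (δ * π * δ * π) a = if a ∈ B then a else a * c := by
    intro a ha
    rw [cn_mul_left, cn_mul_left, cn_mul_left]
    have he' : cn π e = e := hp.fix e hp.mem
    have hc' : cn π c = c := hp.fix c hc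
    have hec : cn δ e = e * c := hd.move e heW he
    have hcc : cn δ c = c := hd.fix c hd.mem
    by_cases h1 : a ∈ A <;> by_cases h2 : a ∈ B
    · rw [hp.fix a h2, hd.fix a h1, hp.fix a h2, hd.fix a h1, if_pos h2]
    · simp only [hp.move a ha h2, hd.fix a h1, cn_mul, hec, he', hc', hcc, if_neg h2]
      calc a * (e * c) * (e * c * c) = a * (e * c) * (e * (c * c)) := by group
        _ = a * (e * (c * e)) := by rw [hW c hcW, mul_one]; group
        _ = a * c := by rw [hce, ← mul_assoc e, hW e heW, one_mul]
    · rw [hp.fix a h2, hd.move a ha h1, cn_mul, hp.fix a h2, hc', cn_mul, hd.move a ha h1, hcc,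
        if_pos h2, mul_assoc, hW c hcW, mul_one]
    · simp only [hp.move a ha h2, hd.move a ha h1, cn_mul, hec, he', hc', hcc, if_neg h2]
      calc a * c * (e * c) * c * (e * c * c) = a * (c * e) * (c * c) * (e * (c * c)) := by group
        _ = a * (c * (e * e)) := by rw [hW c hcW, mul_one, mul_one]; group
        _ = a * c := by rw [hW e heW, mul_one]
  refine ⟨cj_mul (cj_mul (cj_mul hd.norm hp.norm) hd.norm) hp.norm, hc, hd.one, hp.le, hp.ne,
    fun a ha => ?_, fun a ha ha' => ?_⟩
  · rw [key a (hp.le ha), if_pos ha]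
  · rw [key a ha, if_neg ha']

/-- The braid relation when neither centre lies in the other axis. -/
theorem braid (hc : c ∉ B) (he : e ∉ A) {a : G} (ha : a ∈ W) :
    cn π (cn δ (cn π a)) = cn δ (cn π (cn δ a)) := by
  have hcW := hd.memW
  have heW := hp.memW
  have hce : c * e = e * c := comm_of_sq hW hcW heW
  have he' : cn π e = e := hp.fix e hp.mem
  have hc' : cn π c = c * e := hp.move c hcW hc
  have hec : cn δ e = e * c := hd.move e heW he
  have hcc : cn δ c = c := hd.fix c hd.mem
  by_cases h1 : a ∈ A <;> by_cases h2 : a ∈ B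
  · simp only [hd.fix a h1, hp.fix a h2]
  · simp only [hd.fix a h1, hp.move a ha h2, cn_mul, he', hc', hec, hcc]
    calc a * e * (e * (c * e)) = a * (e * e) * (c * e) := by group
      _ = a * (c * e) := by rw [hW e heW, mul_one]
      _ = a * (e * c) := by rw [hce]
  · simp only [hd.move a ha h1, hp.fix a h2, cn_mul, he', hc', hec, hcc]
    calc a * (c * e) = a * (c * c) * (c * e) := by rw [hW c hcW, mul_one]
      _ = a * c * (c * (c * e)) := by group
      _ = a * c * (c * (e * c)) := by rw [hce]
  · simp only [hd.move a ha h1, hp.move a ha h2, cn_mul, he', hc', hec, hcc]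
    calc a * e * (c * e) * (e * (c * e)) = a * (e * c) * (e * e) * (c * e) := by group
      _ = a * (e * (c * c)) * e := by rw [hW e heW, mul_one]; group
      _ = a := by rw [hW c hcW, mul_one, mul_assoc, hW e heW, mul_one]
      _ = a * c * c := by rw [mul_assoc, hW c hcW, mul_one]
      _ = a * c * (e * e) * c := by rw [hW e heW, mul_one]
      _ = a * c * e * (e * c) := by group
      _ = a * c * (e * c) * (c * (e * c)) := by
        calc a * c * e * (e * c) = a * c * e * (c * c) * (e * c) := by rw [hW c hcW, mul_one]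
          _ = _ := by group

end Tv

end CfsgLib.KondoFusion
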