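import Cfsg.Agent.Invol.ThompsonTransfer

/-!
The Thompson transfer lemma, keeping track of a `2`-subgroup centralising the involution.
-/

set_option autoImplicit false
set_option linter.unusedSectionVars false
set_option linter.deprecated false
set_option linter.style.haveILetI false

namespace CfsgLib.KondoFusion

open Subgroup MulAction

variable {G : Type*} [Group G] [Finite G]

/-- In a group without normal subgroup of index 2, an involution with a `2`-group `R` in its
centraliser is moved into `Q` (of index 2 in `P`, `P` of odd index) by an element carrying `R`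
into `P`. -/
theorem transfer_into (hno : ∀ H : Subgroup G, H.Normal → H.index ≠ 2) (P Q : Subgroup G)
    (hP : Odd P.index) (hQP : Q ≤ P) (hQi : Q.relIndex P = 2) {u : G} (hu : u * u = 1)
    (R : Subgroup G) (hR : IsPGroup 2 R) (hRu : ∀ q ∈ R, q * u = u * q) :
    ∃ g : G, g * u * g⁻¹ ∈ Q ∧ ∀ q ∈ R, g * q * g⁻¹ ∈ P := by
  classical
  by_contra hcon
  push Not at hcon
  set φ := CfsgLib.ThompsonTransfer.parity (Q.subgroupOf P) hQi with hφ
  haveI : P.FiniteIndex := inferInstance
  set a : Multiplicative (ZMod 2) := Multiplicative.ofAdd 1 with ha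
  have ha1 : a ≠ 1 := by decide
  have ha2 : a * a = 1 := by decide
  haveI : Fintype (Quotient (orbitRel (zpowers u) (G ⧸ P))) := Fintype.ofFinite _
  haveI : Fintype (G ⧸ P) := Fintype.ofFinite _
  -- the fixed cosets whose conjugate of `u` lies in `Q`
  let inQ : G ⧸ P → Prop := fun x => x.out⁻¹ * u * x.out ∈ Q
  let FQ : Set (G ⧸ P) := {x | u • x = x ∧ inQ x}
  let A : SubMulAction R (G ⧸ P) :=
    { carrier := FQ
      smul_mem' := fun q x hx => by
        obtain ⟨hx1, hx2⟩ := hx
        have hq : (q : G) * u = u * q := hRu q q.2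
        refine ⟨?_, ?_⟩
        · show u • ((q : G) • x) = (q : G) • x
          rw [smul_smul, ← hq, ← smul_smul, hx1]
        · show ((q : G) • x).out⁻¹ * u * ((q : G) • x).out ∈ Q
          obtain ⟨p, hp⟩ := QuotientGroup.mk_out_eq_mul P ((q : G) * x.out)
          have e : ((q : G) • x).out = (q : G) * x.out * p := by
            rw [← hp]
            congr 1
            conv_lhs => rw [← QuotientGroup.out_eq' x]
            rfl
          rw [e]
          have hnorm := (Subgroup.normal_of_index_eq_two hQi).conj_mem
            ⟨x.out⁻¹ * u * x.out, hQP hx2⟩ (by rw [mem_subgroupOf]; exact hx2) p⁻¹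
          rw [mem_subgroupOf] at hnorm
          have e2 : ((q : G) * x.out * p)⁻¹ * u * ((q : G) * x.out * p) =
              (p : G)⁻¹ * (x.out⁻¹ * u * x.out) * p := by
            calc ((q : G) * x.out * p)⁻¹ * u * ((q : G) * x.out * p)
                = (p : G)⁻¹ * x.out⁻¹ * ((q : G)⁻¹ * (u * q)) * x.out * p := by group
              _ = (p : G)⁻¹ * x.out⁻¹ * ((q : G)⁻¹ * ((q : G) * u)) * x.out * p := by rw [hq]
              _ = _ := by group
          rw [e2]
          simpa using hnorm }
  have hfree : fixedPoints R A = ∅ := by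
    refine Set.eq_empty_iff_forall_notMem.2 fun x hx => ?_
    obtain ⟨q, hqR, hqP⟩ := hcon (x.1.out)⁻¹ (by simpa using x.2.2)
    refine hqP ?_
    have h : (q : G) • (x.1 : G ⧸ P) = x.1 := congrArg Subtype.val (hx ⟨q, hqR⟩)
    have h' : ((q * x.1.out : G) : G ⧸ P) = (x.1.out : G ⧸ P) := by
      conv_rhs => rw [QuotientGroup.out_eq', ← h, ← QuotientGroup.out_eq' x.1]
      rfl
    rw [QuotientGroup.eq] at h'
    have := P.inv_mem h'
    rw [inv_inv]
    simpa [mul_assoc] using this
  haveI : Fact (Nat.Prime 2) := ⟨Nat.prime_two⟩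
  have heven : Even (Finset.univ.filter fun x : G ⧸ P => u • x = x ∧ inQ x).card := by
    have h := hR.card_modEq_card_fixedPoints A
    rw [hfree] at h
    simp only [Nat.card_of_isEmpty] at h
    have hc : Nat.card A = (Finset.univ.filter fun x : G ⧸ P => u • x = x ∧ inQ x).card := by
      rw [← Fintype.card_subtype, ← Nat.card_eq_fintype_card]
      rfl
    rw [hc] at h
    exact Nat.even_iff.2 h
  have hd : ∀ q : Quotient (orbitRel (zpowers u) (G ⧸ P)),
      Function.minimalPeriod (u • ·) q.out = 1 ∨ Function.minimalPeriod (u • ·) q.out = 2 := fun q => by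
    refine (Nat.dvd_prime Nat.prime_two).1 (Function.IsPeriodicPt.minimalPeriod_dvd ?_)
    show (u • ·)^[2] q.out = q.out
    rw [Function.iterate_succ_apply', Function.iterate_one, smul_smul, hu, one_smul]
  have hper : ∀ x : G ⧸ P, Function.minimalPeriod (u • ·) x = 1 ↔ u • x = x := fun x =>
    Function.minimalPeriod_eq_one_iff_isFixedPt
  set Q1 := Finset.univ.filter fun q : Quotient (orbitRel (zpowers u) (G ⧸ P)) =>
    Function.minimalPeriod (u • ·) q.out = 1 with hQ1
  have hbij : (Q1.filter fun q => inQ q.out).card =
      (Finset.univ.filter fun x : G ⧸ P => u • x = x ∧ inQ x).card := by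
    refine Finset.card_bij (fun q _ => q.out) (fun q hq => ?_) (fun q _ q' _ h => ?_) fun x hx => ?_
    · simp only [hQ1, Finset.mem_filter, Finset.mem_univ, true_and, hper] at hq ⊢
      exact hq
    · rw [← Quotient.out_eq q, h, Quotient.out_eq]
    · simp only [Finset.mem_filter, Finset.mem_univ, true_and] at hx
      have hout : (Quotient.mk (orbitRel (zpowers u) (G ⧸ P)) x).out = x := by
        have h : (Quotient.mk (orbitRel (zpowers u) (G ⧸ P)) x).out ∈ orbit (zpowers u) x :=
          orbitRel_apply.1 (Quotient.mk_out (s := orbitRel (zpowers u) (G ⧸ P)) x)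
        obtain ⟨⟨w, hw⟩, hwx⟩ := h
        rw [← hwx]
        obtain ⟨k, rfl⟩ := Subgroup.mem_zpowers_iff.1 hw
        exact mem_stabilizer_iff.1 (zpow_mem (mem_stabilizer_iff.2 hx.1 : u ∈ stabilizer G x) k)
      refine ⟨_, ?_, hout⟩
      simp only [hQ1, Finset.mem_filter, Finset.mem_univ, true_and, hper, hout]
      exact hx
  have hQ1odd : Odd Q1.card := by
    have h : Q.index ≠ 0 := FiniteIndex.index_ne_zero
    have e := index_eq_sum_minimalPeriod P u
    rw [← Finset.sum_filter_add_sum_filter_not Finset.univ
      (fun q => Function.minimalPeriod (u • ·) (Quotient.out q) = 1)] at e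
    have e1 : ∑ q ∈ Q1, Function.minimalPeriod (u • ·) q.out = Q1.card := by
      rw [Finset.card_eq_sum_ones]
      exact Finset.sum_congr rfl fun q hq => (Finset.mem_filter.1 hq).2
    have e2 : Even (∑ q ∈ Finset.univ.filter (fun q : Quotient (orbitRel (zpowers u) (G ⧸ P)) =>
        ¬ Function.minimalPeriod (u • ·) q.out = 1), Function.minimalPeriod (u • ·) q.out) :=
      Finset.even_sum _ fun q hq => by
        rw [(hd q).resolve_left (Finset.mem_filter.1 hq).2]; exact ⟨1, rfl⟩
    rw [e] at hP
    rw [← hQ1, e1] at hP
    exact (Nat.odd_add.1 hP).2 e2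
  have key : MonoidHom.transfer φ u = a := by
    rw [MonoidHom.transfer_eq_prod_quotient_orbitRel_zpowers_quot φ u]
    calc ∏ q : Quotient (orbitRel (zpowers u) (G ⧸ P)), _
        = ∏ q : Quotient (orbitRel (zpowers u) (G ⧸ P)),
            (if Function.minimalPeriod (u • ·) q.out = 1 ∧ ¬ inQ q.out then a else 1) := by
          refine Finset.prod_congr rfl fun q _ => ?_
          rcases hd q with e | e
          · by_cases hi : inQ q.out
            · rw [if_neg (fun h => h.2 hi)]
              refine CfsgLib.ThompsonTransfer.parity_apply_mem hQi ?_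
              rw [mem_subgroupOf]
              simpa [e] using hi
            · rw [if_pos ⟨e, hi⟩]
              refine CfsgLib.ThompsonTransfer.parity_apply_not_mem hQi fun hmem => hi ?_
              rw [mem_subgroupOf] at hmem
              simpa [e] using hmem
          · rw [if_neg (fun h => by omega)]
            refine CfsgLib.ThompsonTransfer.parity_apply_mem hQi ?_
            rw [mem_subgroupOf]
            simp [e, sq, hu]
      _ = a ^ (Q1.filter fun q => ¬ inQ q.out).card := by
          rw [← Finset.prod_filter, Finset.prod_const, hQ1, Finset.filter_filter]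
      _ = a := by
          obtain ⟨k, hk⟩ : Odd (Q1.filter fun q => ¬ inQ q.out).card := by
            have := Finset.card_filter_add_card_filter_not (s := Q1) (fun q => inQ q.out)
            rw [← this, hbij] at hQ1odd
            exact (Nat.odd_add'.1 hQ1odd).2 heven
          rw [hk, pow_succ, pow_mul, sq, ha2, one_pow, one_mul]
  refine hno (MonoidHom.transfer φ).ker inferInstance ?_
  rw [index_ker]
  have h2 : Nat.card (MonoidHom.transfer φ).range ∣ 2 := by
    have h := (MonoidHom.transfer φ).range.card_subgroup_dvd_card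
    rwa [show Nat.card (Multiplicative (ZMod 2)) = 2 by simp] at h
  refine ((Nat.dvd_prime Nat.prime_two).1 h2).resolve_left fun h => ha1 ?_
  have h3 : a ∈ (MonoidHom.transfer φ).range := ⟨u, key⟩
  rw [card_eq_one.1 h, mem_bot] at h3
  exact h3

end CfsgLib.KondoFusion
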